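import Mathlib

/-!
A `p`-group acting so that every element outside a normal subgroup `D` fixes no nonzero vector, where `D` acts
homogeneously and no element generates its own centralizer modulo `D`: then `D` acts by `±1` with four cosets.
-/

set_option autoImplicit false
set_option linter.unusedSectionVars false

namespace CfsgLib.Camina.Module

universe u v w

variable {k : Type v} [Field k] {H : Type u} [Group H]

/-- The hypotheses on the representation. -/
structure Fpf {U : Type w} [AddCommGroup U] [Module k U] (ρ : H →* Module.End k U) (D : Subgroup H) : Prop where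
  fpf : ∀ h ∉ D, ∀ v : U, ρ h v = v → v = 0
  hom : ∀ f ∈ Submodule.span k (ρ '' (D : Set H)), (∀ d ∈ D, f * ρ d = ρ d * f) → ∃ c : k, f = c • 1
  cent : ∀ x ∉ D, ∃ w : H, x * w * x⁻¹ * w⁻¹ ∈ D ∧ w ∉ Subgroup.zpowers x ⊔ D

variable {U : Type w} [AddCommGroup U] [Module k U] {ρ : H →* Module.End k U} {D : Subgroup H}

/-- The elements acting as scalars. -/
def scalars (ρ : H →* Module.End k U) : Subgroup H where
  carrier := {h | ∃ c : k, ρ h = c • 1}
  one_mem' := ⟨1, by simp⟩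
  mul_mem' := by
    rintro a b ⟨c, hc⟩ ⟨d, hd⟩
    exact ⟨c * d, by rw [map_mul, hc, hd]; simp [smul_smul]; rw [mul_comm]⟩
  inv_mem' := by
    rintro a ⟨c, hc⟩
    by_cases h0 : c = 0
    · refine ⟨0, ?_⟩
      have h1 : ρ a⁻¹ * ρ a = 1 := by rw [← map_mul, inv_mul_cancel, map_one]
      rw [hc, h0, zero_smul, mul_zero] at h1
      rw [zero_smul, ← mul_one (ρ a⁻¹), ← h1, mul_zero]
    · refine ⟨c⁻¹, ?_⟩
      have h1 : ρ a⁻¹ * ρ a = 1 := by rw [← map_mul, inv_mul_cancel, map_one]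
      rw [hc, mul_smul_comm, mul_one] at h1
      rw [← h1, smul_smul, inv_mul_cancel₀ h0, one_smul]

instance : (scalars ρ).Normal where
  conj_mem := by
    rintro a ⟨c, hc⟩ g
    refine ⟨c, ?_⟩
    rw [map_mul, map_mul, hc, mul_smul_comm, mul_one, smul_mul_assoc, ← map_mul, mul_inv_cancel, map_one]

theorem apply_mul (a b : H) (v : U) : ρ (a * b) v = ρ a (ρ b v) := by rw [map_mul]; rfl

theorem inv_apply_apply (a : H) (v : U) : ρ a⁻¹ (ρ a v) = v := by
  rw [← apply_mul, inv_mul_cancel, map_one]; rfl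

theorem scalar_ne_zero [Nontrivial U] {a : H} {c : k} (hc : ρ a = c • 1) : c ≠ 0 := by
  rintro rfl
  obtain ⟨v, hv⟩ := exists_ne (0 : U)
  apply hv
  rw [← inv_apply_apply (ρ := ρ) a v, hc]
  simp

/-- An element outside `D` has no eigenvalue one after multiplying by a scalar element of `D`. -/
theorem no_inverse_eigen (h : Fpf ρ D) {y d : H} (hy : y ∉ D) (hd : d ∈ D) {c l : k} (hc : ρ d = c • 1) {v : U}
    (hv : ρ y v = l • v) (hcl : l * c = 1) : v = 0 := by
  refine h.fpf (y * d) (fun hh => hy ?_) v ?_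
  · simpa using D.mul_mem hh (D.inv_mem hd)
  · rw [apply_mul, hc, LinearMap.smul_apply, Module.End.one_apply, map_smul, hv, smul_smul, mul_comm, hcl, one_smul]

variable [IsAlgClosed k] [FiniteDimensional k U] [Nontrivial U]

theorem exists_eigen (f : Module.End k U) : ∃ (l : k) (v : U), v ≠ 0 ∧ f v = l • v := by
  obtain ⟨l, hl⟩ := Module.End.exists_eigenvalue f
  obtain ⟨v, hv⟩ := hl.exists_hasEigenvector
  exact ⟨l, v, hv.2, hv.apply_eq_smul⟩

theorem pow_apply_eigen {y : H} {l : k} {v : U} (hv : ρ y v = l • v) (n : ℕ) : ρ (y ^ n) v = l ^ n • v := by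
  induction n with
  | zero => simp
  | succ n ih => rw [pow_succ, apply_mul, hv, map_smul, ih, smul_smul, pow_succ']

variable {p : ℕ} [hp : Fact p.Prime]

/-- With `D` scalar and containing a scalar of order `p`, an element of order `p` modulo `D` has no `p`-th power of
shape `ρ d ^ p`. -/
theorem pow_ne (h : Fpf ρ D) {y d e : H} (hy : y ∉ D) (hd : d ∈ D) (he : e ∈ D) {a z : k} (hda : ρ d = a • 1)
    (hez : ρ e = z • 1) (hz : IsPrimitiveRoot z p) : ρ (y ^ p) ≠ (a ^ p) • 1 := by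
  intro hyp
  obtain ⟨l, v, hv0, hv⟩ := exists_eigen (ρ y)
  have ha := scalar_ne_zero hda
  have h1 : l ^ p = a ^ p := by
    have h2 := pow_apply_eigen hv p
    rw [hyp, LinearMap.smul_apply, Module.End.one_apply] at h2
    exact (smul_left_injective k hv0 h2).symm
  have hl : l ≠ 0 := fun e0 => pow_ne_zero p ha (by rw [← h1, e0, zero_pow hp.out.ne_zero])
  haveI : NeZero p := ⟨hp.out.ne_zero⟩
  obtain ⟨i, -, hi⟩ := hz.eq_pow_of_pow_eq_one (show (a / l) ^ p = 1 by
    rw [div_pow, h1, div_self (pow_ne_zero p ha)])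
  refine hv0 (no_inverse_eigen h hy (d := d⁻¹ * e ^ i) (D.mul_mem (D.inv_mem hd) (D.pow_mem he i))
    (c := a⁻¹ * z ^ i) ?_ hv ?_)
  · have h3 : ρ d⁻¹ = a⁻¹ • 1 := by
      have h4 : ρ d⁻¹ * ρ d = 1 := by rw [← map_mul, inv_mul_cancel, map_one]
      rw [hda, mul_smul_comm, mul_one] at h4
      rw [← h4, smul_smul, inv_mul_cancel₀ ha, one_smul]
    rw [map_mul, map_pow, h3, hez, smul_pow, one_pow, smul_mul_smul_comm, one_mul]
  · rw [hi]; field_simp

theorem pow_swap {A : Type*} [Ring A] [Algebra k A] {V X : A} {q : k} (hq : X * V = q • (V * X)) (n : ℕ) :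
    X ^ n * V = q ^ n • (V * X ^ n) := by
  induction n with
  | zero => simp
  | succ n ih =>
    rw [pow_succ, mul_assoc, hq, mul_smul_comm, ← mul_assoc, ih, smul_mul_assoc, smul_smul, mul_assoc, pow_succ']

theorem mul_pow_swap {A : Type*} [Ring A] [Algebra k A] {V X : A} {q : k} (hq : X * V = q • (V * X)) (n : ℕ) :
    (V * X) ^ n = q ^ n.choose 2 • (V ^ n * X ^ n) := by
  induction n with
  | zero => simp
  | succ n ih =>
    rw [pow_succ, ih, smul_mul_assoc, mul_assoc (V ^ n), ← mul_assoc (X ^ n), pow_swap hq, smul_mul_assoc,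
      mul_smul_comm, smul_smul, ← pow_add, pow_succ V, pow_succ X, Nat.choose_succ_succ', Nat.choose_one_right,
      add_comm n, mul_assoc (V ^ n), mul_assoc V]

theorem smul_one_inj {c d : k} (h : (c • 1 : Module.End k U) = d • 1) : c = d :=
  smul_left_injective k (one_ne_zero (α := Module.End k U)) h

omit [IsAlgClosed k] [FiniteDimensional k U] [Nontrivial U] hp in
theorem scalar_of_comm {x w : H} {z : k} (hz : ρ (x * w * x⁻¹ * w⁻¹) = z • 1) :
    ρ x * ρ w = z • (ρ w * ρ x) := by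
  rw [← map_mul, show x * w = x * w * x⁻¹ * w⁻¹ * (w * x) by group, map_mul, hz, smul_mul_assoc, one_mul, map_mul]

/-- Two elements of order `p` modulo `D` with independent images and scalar commutator. -/
theorem pair_facts [Finite H] (h : Fpf ρ D) (hH : IsPGroup p H) (hs : D ≤ scalars ρ) {x w : H}
    (hx : x ∉ D) (hw : w ∉ Subgroup.zpowers x ⊔ D) (hxp : x ^ p ∈ D) (hwp : w ^ p ∈ D)
    (hc : x * w * x⁻¹ * w⁻¹ ∈ D) :
    p = 2 ∧ ρ x * ρ w = -(ρ w * ρ x) ∧ ρ (x * x) = -1 ∧ ∀ d ∈ D, ρ d = 1 ∨ ρ d = -1 := by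
  classical
  let χ : D →* kˣ := MonoidHom.mk' (fun d => Units.mk0 (hs d.2).choose (scalar_ne_zero (hs d.2).choose_spec))
    fun a b => Units.ext <| smul_one_inj (U := U) <| by
      simp only [Units.val_mk0, Units.val_mul]
      rw [← (hs (a * b).2).choose_spec, Subgroup.coe_mul, map_mul]
      conv_lhs => rw [(hs a.2).choose_spec, (hs b.2).choose_spec, smul_mul_smul_comm, one_mul]
  have hχ : ∀ d : D, ρ d = (χ d : k) • 1 := fun d => (hs d.2).choose_spec
  obtain ⟨z, hzd⟩ := hs hc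
  have hswap := scalar_of_comm hzd
  have hzp : z ^ p = 1 := by
    have h1 := pow_swap hswap p
    obtain ⟨al, hal⟩ := hs hxp
    rw [← map_pow, hal, smul_mul_assoc, one_mul, mul_smul_comm, mul_one, smul_smul] at h1
    have hW : ρ w ≠ 0 := fun e => one_ne_zero (α := Module.End k U)
      (by rw [← map_one ρ, ← inv_mul_cancel w, map_mul, e, mul_zero])
    exact mul_right_cancel₀ (scalar_ne_zero hal) ((smul_left_injective k hW h1).symm.trans (one_mul al).symm)
  haveI : Finite χ.range := Finite.of_surjective χ.rangeRestrict χ.rangeRestrict_surjective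
  obtain ⟨⟨g, d0, hd0⟩, hg⟩ := IsCyclic.exists_generator (α := χ.range)
  have hpw : ∀ d : D, ∃ a : ℕ, (χ d : k) = (g : k) ^ a := fun d => by
    obtain ⟨a, ha⟩ := mem_powers_iff_mem_zpowers.mpr (hg ⟨χ d, d, rfl⟩)
    exact ⟨a, by rw [← Units.val_pow_eq_pow_val]; exact congrArg (fun t : χ.range => ((t : kˣ) : k)) ha.symm⟩
  obtain ⟨j, hj⟩ : ∃ j, orderOf g = p ^ j := by
    obtain ⟨j, hj⟩ := hH (d0 : H)
    obtain ⟨i, -, hi⟩ := (Nat.dvd_prime_pow hp.out).mp ((orderOf_map_dvd χ d0).trans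
      (show orderOf d0 ∣ p ^ j from orderOf_dvd_of_pow_eq_one (Subtype.ext (by simpa using hj))))
    exact ⟨i, by rw [← hd0, hi]⟩
  have hgd : ρ (d0 : H) = (g : k) • 1 := by rw [hχ, hd0]
  obtain ⟨a, ha⟩ := hpw ⟨_, hxp⟩
  obtain ⟨b, hb⟩ := hpw ⟨_, hwp⟩
  have hax : ρ (x ^ p) = (g : k) ^ a • 1 := by rw [← ha]; exact hχ ⟨_, hxp⟩
  have hbw : ρ (w ^ p) = (g : k) ^ b • 1 := by rw [← hb]; exact hχ ⟨_, hwp⟩
  have hwD : w ∉ D := fun e => hw (Subgroup.mem_sup_right e)
  have houti : ∀ i : ℕ, w ^ i * x ∉ D := by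
    intro i hi
    by_cases hpi : p ∣ i
    · obtain ⟨m, rfl⟩ := hpi
      refine hx ?_
      rw [show x = (w ^ (p * m))⁻¹ * (w ^ (p * m) * x) by group]
      exact D.mul_mem (D.inv_mem (pow_mul w p m ▸ D.pow_mem hwp m)) hi
    · obtain ⟨t, -, ht⟩ := Nat.exists_mul_mod_eq_one_of_coprime
        ((hp.out.coprime_iff_not_dvd.mpr hpi).symm) hp.out.one_lt
      refine hw ?_
      have h1 : w ^ i ∈ Subgroup.zpowers x ⊔ D := by
        rw [show w ^ i = (w ^ i * x) * x⁻¹ by group]
        exact mul_mem (Subgroup.mem_sup_right hi) (Subgroup.mem_sup_left (inv_mem (Subgroup.mem_zpowers x)))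
      have h2 : w ^ (i * t) ∈ Subgroup.zpowers x ⊔ D := by rw [pow_mul]; exact pow_mem h1 t
      rw [← Nat.mod_add_div (i * t) p, ht, pow_add, pow_one, pow_mul] at h2
      exact (Subgroup.mul_mem_cancel_right _ (Subgroup.mem_sup_right (D.pow_mem hwp _))).mp h2
  -- powers of the products
  have hval : ∀ i : ℕ, ρ ((w ^ i * x) ^ p) = ((z ^ i) ^ p.choose 2 * (g : k) ^ (b * i + a)) • 1 := by
    intro i
    have hsw : ρ x * ρ w ^ i = z ^ i • (ρ w ^ i * ρ x) := by
      clear hpw hax hbw houti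
      induction i with
      | zero => simp
      | succ i ih =>
        rw [pow_succ, ← mul_assoc, ih, smul_mul_assoc, mul_assoc, hswap, mul_smul_comm, smul_smul, mul_assoc,
          pow_succ, mul_comm (z ^ i) z, mul_comm z (z ^ i)]
    rw [map_pow, map_mul, map_pow, mul_pow_swap hsw, ← pow_mul (ρ w), mul_comm i p, pow_mul (ρ w), ← map_pow ρ w, hbw,
      ← map_pow ρ x, hax, smul_pow, one_pow, ← pow_mul (g : k), smul_mul_smul_comm, one_mul, smul_smul, ← pow_add]
  -- a `p`-th power with a primitive root available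
  have hkill : g ≠ 1 → ∀ y ∉ D, ∀ m : ℕ, p ∣ m → ρ (y ^ p) ≠ (g : k) ^ m • 1 := by
    intro hg1 y hy m hm
    obtain ⟨m, rfl⟩ := hm
    obtain ⟨j', rfl⟩ : ∃ j', j = j' + 1 := Nat.exists_eq_succ_of_ne_zero fun e => hg1
      (orderOf_eq_one_iff.mp (by rw [hj, e, pow_zero]))
    have hroot : IsPrimitiveRoot ((g : k) ^ p ^ j') p := by
      refine IsPrimitiveRoot.pow (pow_pos hp.out.pos (j' + 1)) ?_ (pow_succ p j')
      rw [IsPrimitiveRoot.coe_units_iff]; exact hj ▸ IsPrimitiveRoot.orderOf g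
    rw [mul_comm p m, pow_mul]
    exact pow_ne h hy (D.pow_mem d0.2 m) (D.pow_mem d0.2 (p ^ j'))
      (by rw [map_pow, hgd, smul_pow, one_pow]) (by rw [map_pow, hgd, smul_pow, one_pow]) hroot
  have hg1 : g ≠ 1 := by
    intro e
    have hz1 : z = 1 := by
      obtain ⟨c, hc'⟩ := hpw ⟨_, hc⟩
      rw [← smul_one_inj ((hχ ⟨_, hc⟩).symm.trans hzd), hc', e]; simp
    rw [hz1, one_smul] at hswap
    obtain ⟨l, hl⟩ := Module.End.exists_eigenvalue (ρ x)
    set E := Module.End.eigenspace (ρ x) l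
    have hEW : ∀ v ∈ E, ρ w v ∈ E := fun v hv => by
      rw [Module.End.mem_eigenspace_iff] at hv ⊢
      have h2 := LinearMap.congr_fun hswap v
      rw [Module.End.mul_apply, Module.End.mul_apply, hv, map_smul] at h2
      exact h2
    haveI : Nontrivial E := Submodule.nontrivial_iff_ne_bot.mpr hl
    obtain ⟨mu, ⟨v, hvE⟩, hv0, hv⟩ := exists_eigen ((ρ w).restrict hEW)
    have hv0' : v ≠ 0 := fun e0 => hv0 (Subtype.ext e0)
    have hvw : ρ w v = mu • v := congrArg Subtype.val hv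
    have hvx : ρ x v = l • v := Module.End.mem_eigenspace_iff.mp hvE
    have hone : ∀ (y : H) (c : k), ρ y v = c • v → ∀ m, ρ (y ^ p) = (g : k) ^ m • 1 → c ^ p = 1 := by
      intro y c hyv m hm
      have h2 := pow_apply_eigen hyv p
      rw [hm, e, Units.val_one, one_pow, one_smul, Module.End.one_apply] at h2
      exact (smul_left_injective k hv0' (show (1 : k) • v = c ^ p • v by rw [one_smul]; exact h2)).symm
    have hl1 : l ≠ 1 := fun e1 => hv0' (h.fpf x hx v (by rw [hvx, e1, one_smul]))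
    haveI : NeZero p := ⟨hp.out.ne_zero⟩
    have hroot : IsPrimitiveRoot l p := by
      have : orderOf l = p := orderOf_eq_prime (hone x l hvx a hax) hl1
      exact this ▸ IsPrimitiveRoot.orderOf l
    obtain ⟨i, hi, rfl⟩ := hroot.eq_pow_of_pow_eq_one (hone w mu hvw b hbw)
    refine hv0' (h.fpf (x ^ (p - i) * w) (fun hh => hw ?_) v ?_)
    · rw [show w = (x ^ (p - i))⁻¹ * (x ^ (p - i) * w) by group]
      exact mul_mem (Subgroup.mem_sup_left (inv_mem (pow_mem (Subgroup.mem_zpowers x) _))) (Subgroup.mem_sup_right hh)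
    · rw [apply_mul, hvw, map_smul, pow_apply_eigen hvx, smul_smul, ← pow_add, Nat.add_sub_cancel' hi.le,
        hone x l hvx a hax, one_smul]
  have hb' : ¬ p ∣ b := fun hd => hkill hg1 w hwD b hd hbw
  have ha' : ¬ p ∣ a := fun hd => hkill hg1 x hx a hd hax
  -- the exponent making the product a `p`-th power
  obtain ⟨i, hi⟩ : ∃ i : ℕ, p ∣ b * i + a := by
    refine ⟨(-(a : ZMod p) / b).val, ?_⟩
    rw [← ZMod.natCast_eq_zero_iff, Nat.cast_add, Nat.cast_mul, ZMod.natCast_val, ZMod.cast_id, mul_div_cancel₀ _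
      (by rwa [Ne, ZMod.natCast_eq_zero_iff]), neg_add_cancel]
  have hp2 : p = 2 := by
    by_contra hp2
    refine hkill hg1 _ (houti i) _ hi ?_
    rw [hval]
    congr 1
    have hodd : p ∣ p.choose 2 := hp.out.dvd_choose_self two_ne_zero
      (lt_of_le_of_ne hp.out.two_le (Ne.symm hp2))
    obtain ⟨c, hc'⟩ := hodd
    rw [hc', ← pow_mul, mul_comm i, mul_assoc, pow_mul, hzp, one_pow, one_mul]
  subst hp2
  have hz1 : z = -1 := by
    rcases sq_eq_one_iff.mp hzp with e | e
    · refine absurd ?_ (hkill hg1 _ (houti i) _ hi)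
      rw [hval, e]; simp
    · exact e
  have hj0 : j ≠ 0 := fun e => hg1 (orderOf_eq_one_iff.mp (by rw [hj, e, pow_zero]))
  have hgm : (g : k) ^ 2 ^ (j - 1) = -1 := by
    have h2 : ((g : k) ^ 2 ^ (j - 1)) ^ 2 = 1 := by
      rw [← pow_mul, ← pow_succ, Nat.sub_add_cancel (Nat.one_le_iff_ne_zero.mpr hj0), ← Units.val_pow_eq_pow_val,
        ← hj, pow_orderOf_eq_one, Units.val_one]
    refine (sq_eq_one_iff.mp h2).resolve_left fun e => ?_
    have h3 : orderOf g ∣ 2 ^ (j - 1) := orderOf_dvd_of_pow_eq_one (Units.ext (by simpa using e))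
    rw [hj, Nat.pow_dvd_pow_iff_le_right (by norm_num)] at h3
    omega
  have hj1 : j = 1 := by
    by_contra hj1
    refine hkill hg1 _ (houti 1) (2 ^ (j - 1) + (b * 1 + a))
      (dvd_add (dvd_pow_self 2 (by omega)) (by omega)) ?_
    rw [hval, pow_add (g : k) (2 ^ (j - 1)), hgm, hz1]; norm_num
  have hgneg : (g : k) = -1 := by simpa [hj1] using hgm
  refine ⟨rfl, by rw [hswap, hz1, neg_one_smul], ?_, fun d hd => ?_⟩
  · have hodd : Odd a := Nat.odd_iff.mpr (by omega)
    rw [← pow_two, hax, hgneg, hodd.neg_one_pow, neg_one_smul]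
  · obtain ⟨c, hc'⟩ := hpw ⟨d, hd⟩
    rw [hχ ⟨d, hd⟩, hc', hgneg]
    rcases Nat.even_or_odd c with he | he
    · exact Or.inl (by rw [he.neg_one_pow, one_smul])
    · exact Or.inr (by rw [he.neg_one_pow, neg_one_smul])

end CfsgLib.Camina.Module
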