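import Mathlib
import Cfsg.Agent.Lib.Camina.Module.Fpf

/-!
`D` acts by `±1` with exactly four cosets: the case of scalar `D`, and the reduction to it.
-/

set_option autoImplicit false
set_option linter.unusedSectionVars false

namespace CfsgLib.Camina.Module

universe u v w

variable {k : Type v} [Field k] [IsAlgClosed k] {H : Type u} [Group H] {p : ℕ} [hp : Fact p.Prime]

/-- The conclusion. -/
structure Four {U : Type w} [AddCommGroup U] [Module k U] (p : ℕ) (ρ : H →* Module.End k U) (D : Subgroup H) : Prop where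
  two : p = 2
  index : D.index = 4
  sq : ∀ h ∉ D, ρ (h * h) = -1
  sign : ∀ d ∈ D, ρ d = 1 ∨ ρ d = -1
  mem : ∀ h, h * h ∈ D
  comm : ∀ a b, a * b * a⁻¹ * b⁻¹ ∈ D

/-- A nontrivial normal subgroup of a `p`-group has a central element of order `p`. -/
theorem exists_central {G : Type*} [Group G] [Finite G] (hG : IsPGroup p G) (N : Subgroup G) [N.Normal]
    (hN : N ≠ ⊥) : ∃ u ∈ N, orderOf u = p ∧ ∀ g, g * u = u * g := by
  letI : MulAction G N :=
    { smul := fun g u => ⟨g * u * g⁻¹, ‹N.Normal›.conj_mem u u.2 g⟩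
      one_smul := fun u => Subtype.ext (show (1 : G) * u * 1⁻¹ = u by simp)
      mul_smul := fun g h u => Subtype.ext (show g * h * u * (g * h)⁻¹ = g * (h * u * h⁻¹) * g⁻¹ by group) }
  obtain ⟨j, hj⟩ := IsPGroup.iff_card.mp (hG.to_subgroup N)
  have hj0 : j ≠ 0 := by
    rintro rfl
    exact hN (Subgroup.card_eq_one.mp (by simpa using hj))
  obtain ⟨u, hu, hu1⟩ := hG.exists_fixed_point_of_prime_dvd_card_of_fixed_point N (hj ▸ dvd_pow_self p hj0)
    (a := (1 : N)) (fun g => Subtype.ext (show g * (1 : N) * g⁻¹ = (1 : G) by simp))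
  have hc : ∀ g, g * (u : G) = u * g := fun g => mul_inv_eq_iff_eq_mul.mp (congrArg Subtype.val (hu g))
  obtain ⟨i, hi⟩ : ∃ i, orderOf (u : G) = p ^ (i + 1) := by
    obtain ⟨m, hm⟩ := IsPGroup.iff_orderOf.mp hG (u : G)
    refine ⟨m - 1, hm.trans ?_⟩
    rw [Nat.sub_add_cancel]
    refine Nat.one_le_iff_ne_zero.mpr fun e => hu1 ?_
    rw [e, pow_zero, orderOf_eq_one_iff] at hm
    exact Subtype.ext hm.symm
  refine ⟨(u : G) ^ p ^ i, pow_mem u.2 _, orderOf_eq_prime ?_ fun e => ?_, fun g => ?_⟩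
  · rw [← pow_mul, ← pow_succ, ← hi, pow_orderOf_eq_one]
  · have h1 := orderOf_dvd_of_pow_eq_one e
    rw [hi, Nat.pow_dvd_pow_iff_le_right hp.out.one_lt] at h1
    omega
  · exact (show Commute g (u : G) from hc g).pow_right _

/-- An element of order `p` outside the powers of an element of largest order, commuting with it. -/
theorem exists_order_prime {Q : Type*} [Group Q] [Finite Q] (hQ : IsPGroup p Q) {y w : Q}
    (hmax : ∀ q : Q, orderOf q ≤ orderOf y) (hc : y * w = w * y) (hw : w ∉ Subgroup.zpowers y) :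
    ∃ b, y * b = b * y ∧ b ^ p = 1 ∧ b ∉ Subgroup.zpowers y := by
  classical
  obtain ⟨m, hm⟩ := hQ w
  have hex : ∃ j, w ^ p ^ j ∈ Subgroup.zpowers y := ⟨m, hm ▸ one_mem _⟩
  obtain ⟨j, hj⟩ : ∃ j, Nat.find hex = j + 1 := Nat.exists_eq_succ_of_ne_zero fun e => hw (by
    simpa [e] using Nat.find_spec hex)
  have hup : (w ^ p ^ j) ^ p ∈ Subgroup.zpowers y := by
    rw [← pow_mul, ← pow_succ, ← hj]; exact Nat.find_spec hex
  have hu : w ^ p ^ j ∉ Subgroup.zpowers y := Nat.find_min hex (by omega)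
  set u := w ^ p ^ j
  obtain ⟨i, hi⟩ := (mem_powers_iff_mem_zpowers.mpr hup)
  change y ^ i = u ^ p at hi
  have hpi : p ∣ i := by
    by_contra hpi
    obtain ⟨e, he⟩ := IsPGroup.iff_orderOf.mp hQ y
    obtain ⟨f, hf⟩ := IsPGroup.iff_orderOf.mp hQ u
    have hi' : orderOf (u ^ p) = orderOf y := by
      rw [← hi]
      exact Nat.Coprime.orderOf_pow (by rw [he]; exact ((hp.out.coprime_iff_not_dvd.mpr hpi).pow_left e))
    have hf0 : f ≠ 0 := fun e0 => hu (by
      rw [e0, pow_zero, orderOf_eq_one_iff] at hf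
      rw [hf]; exact one_mem _)
    have h2 : orderOf (u ^ p) = p ^ (f - 1) := by
      rw [orderOf_pow_of_dvd hp.out.ne_zero (hf ▸ dvd_pow_self p hf0), hf]
      conv_lhs => rw [show f = f - 1 + 1 by omega, pow_succ]
      exact Nat.mul_div_cancel _ hp.out.pos
    have h3 := hmax u
    rw [← hi', h2, hf] at h3
    exact absurd h3 (not_le.mpr (Nat.pow_lt_pow_right hp.out.one_lt (by omega)))
  obtain ⟨t, rfl⟩ := hpi
  have hcu : Commute y u := (show Commute y w from hc).pow_right _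
  have hcb : Commute y (u * (y ^ t)⁻¹) := hcu.mul_right ((Commute.self_pow y t).inv_right)
  refine ⟨u * (y ^ t)⁻¹, hcb, ?_, fun hb => hu ?_⟩
  · rw [((hcu.symm.pow_right t).inv_right).mul_pow, inv_pow, ← pow_mul y, mul_comm t p, hi, mul_inv_cancel]
  · simpa using mul_mem hb (pow_mem (Subgroup.mem_zpowers y) t)

variable {U : Type w} [AddCommGroup U] [Module k U] [FiniteDimensional k U] [Nontrivial U]
  {ρ : H →* Module.End k U} {D : Subgroup H} [D.Normal] [Finite H]

theorem two_ne_zero_of_fpf (h : Fpf ρ D) {x : H} (hx : x ∉ D) (hsq : ρ (x * x) = -1) : (2 : k) ≠ 0 := by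
  intro h2
  obtain ⟨v, hv⟩ := exists_ne (0 : U)
  have hneg : ∀ u : U, -u = u := fun u => by
    rw [neg_eq_iff_add_eq_zero, ← two_smul k u, h2, zero_smul]
  have hxx : ρ x (ρ x v) = v := by
    rw [← apply_mul, hsq]; exact hneg v
  by_cases hsum : v + ρ x v = 0
  · refine hv (h.fpf x hx v ?_)
    rw [← neg_eq_of_add_eq_zero_right hsum, hneg]
  · exact hsum (h.fpf x hx _ (by rw [map_add, hxx, add_comm]))

/-- The case of scalar `D`. -/
theorem four_of_scalar (h : Fpf ρ D) (hH : IsPGroup p H) (hD : D ≠ ⊤) (hs : D ≤ scalars ρ) : Four p ρ D := by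
  classical
  have hQ : IsPGroup p (H ⧸ D) := hH.to_quotient D
  have hpair : ∀ x w : H, (x : H ⧸ D) ^ p = 1 → (w : H ⧸ D) ^ p = 1 → Commute (x : H ⧸ D) w →
      (x : H ⧸ D) ≠ 1 → (w : H ⧸ D) ∉ Subgroup.zpowers (x : H ⧸ D) →
      p = 2 ∧ ρ x * ρ w = -(ρ w * ρ x) ∧ ρ (x * x) = -1 ∧ ∀ d ∈ D, ρ d = 1 ∨ ρ d = -1 := by
    intro x w hx hw hc hx1 hwx
    refine pair_facts h hH hs (fun e => hx1 ((QuotientGroup.eq_one_iff x).mpr e)) (fun e => hwx ?_)
      ((QuotientGroup.eq_one_iff _).mp (by rw [QuotientGroup.mk_pow, hx]))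
      ((QuotientGroup.eq_one_iff _).mp (by rw [QuotientGroup.mk_pow, hw]))
      ((QuotientGroup.eq_one_iff _).mp (by
        rw [QuotientGroup.mk_mul, QuotientGroup.mk_mul, QuotientGroup.mk_mul, QuotientGroup.mk_inv,
          QuotientGroup.mk_inv, hc.eq]; group))
    have h1 := Subgroup.mem_map_of_mem (QuotientGroup.mk' D) e
    rwa [Subgroup.map_sup, QuotientGroup.map_mk'_self, sup_bot_eq, MonoidHom.map_zpowers] at h1
  have hcent : ∀ q : H ⧸ D, q ≠ 1 → ∃ w, Commute q w ∧ w ∉ Subgroup.zpowers q := by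
    intro q hq
    obtain ⟨x, rfl⟩ := QuotientGroup.mk'_surjective D q
    obtain ⟨w, hw1, hw2⟩ := h.cent x (fun e => hq ((QuotientGroup.eq_one_iff x).mpr e))
    refine ⟨(w : H ⧸ D), ?_, fun e => hw2 ?_⟩
    · have := (QuotientGroup.eq_one_iff (x * w * x⁻¹ * w⁻¹)).mpr hw1
      rw [QuotientGroup.mk_mul, QuotientGroup.mk_mul, QuotientGroup.mk_mul, QuotientGroup.mk_inv,
        QuotientGroup.mk_inv, mul_inv_eq_one, mul_inv_eq_iff_eq_mul] at this
      exact this
    · rw [← MonoidHom.map_zpowers (QuotientGroup.mk' D) x] at e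
      obtain ⟨z, hz, hzw⟩ := e
      rw [show w = z * (z⁻¹ * w) by group]
      exact mul_mem (Subgroup.mem_sup_left hz) (Subgroup.mem_sup_right (QuotientGroup.eq.mp hzw))
  obtain ⟨y, hy⟩ := Finite.exists_max (orderOf : H ⧸ D → ℕ)
  have hy1 : y ≠ 1 := by
    intro e
    refine hD (eq_top_iff.mpr fun g _ => (QuotientGroup.eq_one_iff g).mp (orderOf_eq_one_iff.mp ?_))
    have h1 := hy g
    rw [e, orderOf_one] at h1
    exact le_antisymm h1 (orderOf_pos _)
  obtain ⟨w, hw, hwy⟩ := hcent y hy1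
  obtain ⟨b, hcb, hbp, hby⟩ := exists_order_prime hQ hy hw.eq hwy
  obtain ⟨n, hn⟩ := IsPGroup.iff_orderOf.mp hQ y
  obtain ⟨n, rfl⟩ : ∃ m, n = m + 1 := Nat.exists_eq_succ_of_ne_zero fun e => hy1
    (orderOf_eq_one_iff.mp (by rw [hn, e, pow_zero]))
  set a := y ^ p ^ n with ha
  have hap : a ^ p = 1 := by rw [ha, ← pow_mul, ← pow_succ, ← hn, pow_orderOf_eq_one]
  have ha1 : a ≠ 1 := fun e => by
    have h1 := orderOf_dvd_of_pow_eq_one e
    rw [hn, Nat.pow_dvd_pow_iff_le_right hp.out.one_lt] at h1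
    omega
  have hba : b ∉ Subgroup.zpowers a := fun e =>
    hby (Subgroup.zpowers_le.mpr (pow_mem (Subgroup.mem_zpowers y) _) e)
  obtain ⟨Y, rfl⟩ := QuotientGroup.mk'_surjective D y
  obtain ⟨B, rfl⟩ := QuotientGroup.mk'_surjective D b
  have hYn : ((Y ^ p ^ n : H) : H ⧸ D) = a := QuotientGroup.mk_pow D Y _
  obtain ⟨hp2, hanti, hsq, hsign⟩ := hpair (Y ^ p ^ n) B (hYn ▸ hap) hbp
    (hYn ▸ (show Commute (Y : H ⧸ D) (B : H ⧸ D) from hcb).pow_left _) (hYn ▸ ha1) (hYn ▸ hba)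
  subst hp2
  have h2 := two_ne_zero_of_fpf h (fun e => ha1 (hYn ▸ (QuotientGroup.eq_one_iff _).mpr e)) hsq
  have hne : ∀ u v : H, ρ u * ρ v ≠ -(ρ u * ρ v) := by
    intro u v hh
    rw [eq_neg_iff_add_eq_zero, ← two_smul k, smul_eq_zero] at hh
    rcases hh with hh | hh
    · exact h2 hh
    · refine one_ne_zero (α := Module.End k U) ?_
      rw [← map_one ρ, ← mul_inv_cancel (u * v), map_mul, map_mul, hh, zero_mul]
  have hn0 : n = 0 := by
    by_contra hn0
    obtain ⟨z, hz⟩ := hs ((QuotientGroup.eq_one_iff (Y * B * Y⁻¹ * B⁻¹)).mp (by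
      rw [QuotientGroup.mk_mul, QuotientGroup.mk_mul, QuotientGroup.mk_mul, QuotientGroup.mk_inv,
        QuotientGroup.mk_inv, (show Commute (Y : H ⧸ D) (B : H ⧸ D) from hcb).eq]; group) :
      Y * B * Y⁻¹ * B⁻¹ ∈ D)
    have hz1 : z ^ 2 = 1 := by
      rcases hsign _ ((QuotientGroup.eq_one_iff (Y * B * Y⁻¹ * B⁻¹)).mp (by
        rw [QuotientGroup.mk_mul, QuotientGroup.mk_mul, QuotientGroup.mk_mul, QuotientGroup.mk_inv,
          QuotientGroup.mk_inv, (show Commute (Y : H ⧸ D) (B : H ⧸ D) from hcb).eq]; group)) with e | e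
      · rw [smul_one_inj (hz.symm.trans (e.trans (one_smul k _).symm))]; ring
      · rw [smul_one_inj (hz.symm.trans (e.trans (show (-1 : Module.End k U) = (-1 : k) • 1 by simp)))]; ring
    have h3 := pow_swap (scalar_of_comm hz) (2 ^ n)
    obtain ⟨n', rfl⟩ := Nat.exists_eq_succ_of_ne_zero hn0
    rw [pow_succ' 2 n', pow_mul z, hz1, one_pow, one_smul, ← pow_succ' 2 n', ← map_pow, hanti] at h3
    exact hne _ _ h3.symm
  subst hn0
  have hexp : ∀ q : H ⧸ D, q ^ 2 = 1 := fun q => by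
    obtain ⟨e, he⟩ := IsPGroup.iff_orderOf.mp hQ q
    have h1 := hy q
    rw [he, hn, Nat.pow_le_pow_iff_right (by norm_num)] at h1
    exact orderOf_dvd_iff_pow_eq_one.mp (he ▸ (pow_dvd_pow 2 h1).trans (by norm_num))
  have hcomm : ∀ a b : H ⧸ D, Commute a b := fun a b =>
    Commute.of_orderOf_dvd_two (fun g => orderOf_dvd_of_pow_eq_one (hexp g)) a b
  have hmem : ∀ g : H, g * g ∈ D := fun g =>
    (QuotientGroup.eq_one_iff _).mp (by rw [QuotientGroup.mk_mul, ← pow_two, hexp])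
  refine ⟨rfl, ?_, fun g hg => ?_, hsign, hmem, fun u v => ?_⟩
  · set a' : H ⧸ D := (Y : H ⧸ D)
    set b' : H ⧸ D := (B : H ⧸ D)
    have hb1 : b' ≠ 1 := fun e => hby (show b' ∈ Subgroup.zpowers a' by rw [e]; exact one_mem _)
    have hba' : b' ≠ a' := fun e => hby (show b' ∈ Subgroup.zpowers a' by rw [e]; exact Subgroup.mem_zpowers _)
    have hself : ∀ q : H ⧸ D, q * q = 1 := fun q => by rw [← pow_two, hexp]
    have hall : ∀ q : H ⧸ D, q ∈ ({1, a', b', a' * b'} : Finset (H ⧸ D)) := by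
      intro q
      by_contra hq
      simp only [Finset.mem_insert, Finset.mem_singleton, not_or] at hq
      obtain ⟨C, rfl⟩ := QuotientGroup.mk'_surjective D q
      have hnot : ∀ r : H ⧸ D, r ≠ 1 → r ≠ a' → r ∉ Subgroup.zpowers a' := by
        intro r hr1 hr2 hr
        obtain ⟨i, hi⟩ := Subgroup.mem_zpowers_iff.mp hr
        rcases Int.even_or_odd' i with ⟨t, rfl | rfl⟩
        · exact hr1 (hi.symm.trans (by rw [zpow_mul, zpow_two, hself, one_zpow]))
        · exact hr2 (hi.symm.trans (by rw [zpow_add, zpow_mul, zpow_two, hself, one_zpow, one_mul, zpow_one]))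
      have hbc : b' * (C : H ⧸ D) ≠ 1 := fun e => hq.2.2.1
        ((eq_inv_of_mul_eq_one_right e).trans (inv_eq_of_mul_eq_one_right (hself b')))
      have hbca : b' * (C : H ⧸ D) ≠ a' := fun e => hq.2.2.2 (by
        show (C : H ⧸ D) = a' * b'
        rw [← e, mul_assoc, (hcomm (C : H ⧸ D) b').eq, ← mul_assoc, hself, one_mul])
      have e1 := (hpair Y B (hexp _) (hexp _) (hcomm _ _) hy1 hby).2.1
      have e2 := (hpair Y C (hexp _) (hexp _) (hcomm _ _) hy1 (hnot _ hq.1 hq.2.1)).2.1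
      have e3 := (hpair Y (B * C) (hexp _) (hexp _) (hcomm _ _) hy1
        (by rw [QuotientGroup.mk_mul]; exact hnot _ hbc hbca)).2.1
      rw [map_mul, ← mul_assoc, e1, neg_mul, mul_assoc, e2, mul_neg, neg_neg, ← mul_assoc] at e3
      rw [← map_mul] at e3
      exact hne _ _ e3
    have hn1 : a' * b' ≠ 1 := fun e => hba'
      ((eq_inv_of_mul_eq_one_right e).trans (inv_eq_of_mul_eq_one_right (hself a')))
    have hn2 : a' * b' ≠ a' := fun e => hb1 (mul_eq_left.mp e)
    have hn3 : a' * b' ≠ b' := fun e => hy1 (mul_eq_right.mp e)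
    rw [Subgroup.index_eq_card]
    letI := Fintype.ofFinite (H ⧸ D)
    rw [Nat.card_eq_fintype_card, ← Finset.card_univ,
      show (Finset.univ : Finset (H ⧸ D)) = {1, a', b', a' * b'} from
        (Finset.eq_univ_of_forall hall).symm]
    rw [Finset.card_insert_of_notMem (by simp only [Finset.mem_insert, Finset.mem_singleton, not_or]; exact ⟨Ne.symm hy1, Ne.symm hb1, Ne.symm hn1⟩),
      Finset.card_insert_of_notMem (by simp [Ne.symm hba', Ne.symm hn2]),
      Finset.card_insert_of_notMem (by simp [Ne.symm hn3]), Finset.card_singleton]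
  · have hg1 : (g : H ⧸ D) ≠ 1 := fun e => hg ((QuotientGroup.eq_one_iff g).mp e)
    obtain ⟨w', -, hw'⟩ := hcent _ hg1
    obtain ⟨W, rfl⟩ := QuotientGroup.mk'_surjective D w'
    exact (hpair g W (hexp _) (hexp _) (hcomm _ _) hg1 hw').2.2.1
  · rw [← QuotientGroup.eq_one_iff, QuotientGroup.mk_mul, QuotientGroup.mk_mul, QuotientGroup.mk_mul,
      QuotientGroup.mk_inv, QuotientGroup.mk_inv, (hcomm (u : H ⧸ D) v).eq, mul_inv_cancel_right, mul_inv_cancel]

end CfsgLib.Camina.Module
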