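import Mathlib
import Cfsg.Agent.Lib.Camina.Module.Four

/-!
A homogeneously acting `D` is scalar, so it acts by `±1` with four cosets.
-/

set_option autoImplicit false
set_option linter.unusedSectionVars false

namespace CfsgLib.Camina.Module

universe u v w

variable {k : Type v} [Field k]

theorem span_mul {H : Type u} [Group H] {U : Type w} [AddCommGroup U] [Module k U] {ρ : H →* Module.End k U}
    {D : Subgroup H} {f g : Module.End k U} (hf : f ∈ Submodule.span k (ρ '' (D : Set H)))
    (hg : g ∈ Submodule.span k (ρ '' (D : Set H))) : f * g ∈ Submodule.span k (ρ '' (D : Set H)) := by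
  induction hf using Submodule.span_induction with
  | mem a ha =>
    induction hg using Submodule.span_induction with
    | mem b hb =>
      obtain ⟨x, hx, rfl⟩ := ha
      obtain ⟨y, hy, rfl⟩ := hb
      exact Submodule.subset_span ⟨x * y, D.mul_mem hx hy, map_mul ρ x y⟩
    | zero => rw [mul_zero]; exact zero_mem _
    | add b c _ _ h1 h2 => rw [mul_add]; exact add_mem h1 h2
    | smul t b _ h1 => rw [mul_smul_comm]; exact Submodule.smul_mem _ t h1
  | zero => rw [zero_mul]; exact zero_mem _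
  | add b c _ _ h1 h2 => rw [add_mul]; exact add_mem h1 h2
  | smul t b _ h1 => rw [smul_mul_assoc]; exact Submodule.smul_mem _ t h1

theorem pow_swap_right {A : Type*} [Ring A] [Algebra k A] {V X : A} {q : k} (hq : X * V = q • (V * X)) (n : ℕ) :
    X * V ^ n = q ^ n • (V ^ n * X) := by
  induction n with
  | zero => simp
  | succ n ih =>
    rw [pow_succ, ← mul_assoc, ih, smul_mul_assoc, mul_assoc, hq, mul_smul_comm, smul_smul, mul_assoc, pow_succ]

variable [IsAlgClosed k] {p : ℕ} [hp : Fact p.Prime]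

/-- **The fixed-point-free lemma.** -/
theorem four : ∀ (n : ℕ) {H : Type u} [Group H] [Finite H] {U : Type w} [AddCommGroup U] [Module k U]
    [FiniteDimensional k U] [Nontrivial U] (ρ : H →* Module.End k U) (D : Subgroup H) [D.Normal],
    Nat.card H ≤ n → Fpf ρ D → IsPGroup p H → D ≠ ⊤ → Four p ρ D := by
  intro n
  induction n with
  | zero =>
    intro H _ _ U _ _ _ _ ρ D _ hn
    exact absurd hn (by have := Nat.card_pos (α := H); omega)
  | succ n ih =>
  intro H _ _ U _ _ _ _ ρ D _ hn h hH hD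
  by_cases hs : D ≤ scalars ρ
  · exact four_of_scalar h hH hD hs
  exfalso
  set K := D ⊓ scalars ρ with hK
  haveI : (D.map (QuotientGroup.mk' K)).Normal := Subgroup.Normal.map inferInstance _ (QuotientGroup.mk'_surjective K)
  obtain ⟨u, hu, hup, huc⟩ := exists_central (p := p) (hH.to_quotient K) (D.map (QuotientGroup.mk' K)) (fun e => hs
    (fun d hd => by
      have h1 : QuotientGroup.mk' K d ∈ D.map (QuotientGroup.mk' K) := Subgroup.mem_map_of_mem _ hd
      rw [e, Subgroup.mem_bot] at h1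
      exact ((QuotientGroup.eq_one_iff d).mp h1).2))
  obtain ⟨r, hrD, rfl⟩ := Subgroup.mem_map.mp hu
  have hrK : r ∉ scalars ρ := fun e => by
    have h1 : QuotientGroup.mk' K r = 1 := (QuotientGroup.eq_one_iff r).mpr ⟨hrD, e⟩
    rw [h1, orderOf_one] at hup
    exact hp.out.one_lt.ne hup
  obtain ⟨c, hc⟩ : r ^ p ∈ scalars ρ := by
    have h1 := pow_orderOf_eq_one (QuotientGroup.mk' K r)
    rw [hup] at h1
    have h2 : r ^ p ∈ K := (QuotientGroup.eq_one_iff (r ^ p)).mp (by rw [QuotientGroup.mk_pow]; exact h1)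
    exact h2.2
  have heps : ∀ g : H, ∃ e : k, e ^ p = 1 ∧ ρ g * ρ r = e • (ρ r * ρ g) := by
    intro g
    obtain ⟨e, he⟩ := ((QuotientGroup.eq_one_iff (g * r * g⁻¹ * r⁻¹)).mp (by
      rw [QuotientGroup.mk_mul, QuotientGroup.mk_mul, QuotientGroup.mk_mul, QuotientGroup.mk_inv,
        QuotientGroup.mk_inv]
      have h1 : (g : H ⧸ K) * r = r * g := huc g
      rw [h1]; group) : g * r * g⁻¹ * r⁻¹ ∈ K).2
    have h1 := scalar_of_comm he
    refine ⟨e, ?_, h1⟩
    have h2 := pow_swap_right h1 p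
    rw [← map_pow, hc, mul_smul_comm, mul_one, smul_mul_assoc, one_mul, smul_smul] at h2
    have hg : ρ g ≠ 0 := fun e => one_ne_zero (α := Module.End k U)
      (by rw [← map_one ρ, ← inv_mul_cancel g, map_mul, e, mul_zero])
    exact mul_right_cancel₀ (scalar_ne_zero hc) ((smul_left_injective k hg h2).symm.trans (one_mul c).symm)
  let C : Subgroup H :=
    { carrier := {g | Commute (ρ g) (ρ r)}
      one_mem' := by simp only [Set.mem_setOf_eq, map_one]; exact Commute.one_left _
      mul_mem' := fun {a b} ha hb => by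
        simp only [Set.mem_setOf_eq, map_mul]; exact Commute.mul_left ha hb
      inv_mem' := fun {a} ha => by
        show ρ a⁻¹ * ρ r = ρ r * ρ a⁻¹
        calc ρ a⁻¹ * ρ r = ρ a⁻¹ * (ρ r * ρ a) * ρ a⁻¹ := by
              rw [mul_assoc, mul_assoc (ρ r), ← map_mul ρ a a⁻¹, mul_inv_cancel, map_one, mul_one]
          _ = ρ r * ρ a⁻¹ := by
              rw [← (ha : ρ a * ρ r = ρ r * ρ a), ← mul_assoc, ← map_mul, inv_mul_cancel, map_one, one_mul] }
  have hCn : ∀ g h : H, h ∈ C → g * h * g⁻¹ ∈ C := by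
    intro g a ha
    obtain ⟨e, he1, he⟩ := heps g⁻¹
    obtain ⟨e', -, he'⟩ := heps g
    show ρ (g * a * g⁻¹) * ρ r = ρ r * ρ (g * a * g⁻¹)
    have hee : e * e' = 1 := by
      have h1 : ρ r = (e * e') • ρ r := by
        calc ρ r = ρ g * (ρ g⁻¹ * ρ r) := by rw [← mul_assoc, ← map_mul, mul_inv_cancel, map_one, one_mul]
          _ = (e * e') • ρ r := by
            rw [he, mul_smul_comm, ← mul_assoc, he', smul_mul_assoc, mul_assoc, ← map_mul ρ g,
              mul_inv_cancel, map_one, mul_one, smul_smul]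
      have hr0 : ρ r ≠ 0 := fun e => hrK ⟨0, by rw [e, zero_smul]⟩
      exact (smul_left_injective k hr0 (show (1 : k) • ρ r = (e * e') • ρ r by rw [one_smul]; exact h1)).symm
    calc ρ (g * a * g⁻¹) * ρ r = ρ g * ρ a * (ρ g⁻¹ * ρ r) := by simp only [map_mul, mul_assoc]
      _ = e • (ρ g * ρ r * (ρ a * ρ g⁻¹)) := by
          rw [he, mul_smul_comm]
          congr 1
          rw [← mul_assoc, mul_assoc (ρ g), (ha : ρ a * ρ r = ρ r * ρ a)]
          simp only [mul_assoc]
      _ = ρ r * ρ (g * a * g⁻¹) := by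
          rw [he', smul_mul_assoc, smul_smul, hee, one_smul]; simp only [map_mul, mul_assoc]
  -- an element of `D` moving the eigenspaces
  obtain ⟨d0, hd0, e0, he01, he0, hroot⟩ : ∃ d ∈ D, ∃ e : k, e ^ p = 1 ∧ ρ d * ρ r = e • (ρ r * ρ d) ∧
      IsPrimitiveRoot e p := by
    by_contra hne
    push Not at hne
    refine hrK (h.hom (ρ r) (Submodule.subset_span ⟨r, hrD, rfl⟩) fun d hd => ?_)
    obtain ⟨e, he1, he⟩ := heps d
    have : e = 1 := by
      by_contra he2
      exact hne d hd e he1 he (orderOf_eq_prime he1 he2 ▸ IsPrimitiveRoot.orderOf e)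
    rw [he, this, one_smul]
  have he0ne : e0 ≠ 1 := hroot.ne_one hp.out.one_lt
  have hd0C : d0 ∉ C := fun hh => by
    have hh' : ρ d0 * ρ r = ρ r * ρ d0 := hh
    rw [he0] at hh'
    have h1 : ρ r * ρ d0 ≠ 0 := fun e => one_ne_zero (α := Module.End k U) (by
      rw [← map_one ρ, ← inv_mul_cancel (r * d0), map_mul, map_mul ρ r, e, mul_zero])
    exact he0ne (smul_left_injective k h1 (show e0 • _ = (1 : k) • _ by rw [one_smul]; exact hh'))
  haveI : NeZero p := ⟨hp.out.ne_zero⟩
  have hdec : ∀ g : H, ∃ i : ℕ, (d0 ^ i)⁻¹ * g ∈ C := by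
    intro g
    obtain ⟨e, he1, he⟩ := heps g
    obtain ⟨i, -, rfl⟩ := hroot.eq_pow_of_pow_eq_one he1
    refine ⟨i, ?_⟩
    show ρ ((d0 ^ i)⁻¹ * g) * ρ r = ρ r * ρ ((d0 ^ i)⁻¹ * g)
    have h1 := pow_swap he0 i
    rw [← map_pow] at h1
    calc ρ ((d0 ^ i)⁻¹ * g) * ρ r = e0 ^ i • (ρ (d0 ^ i)⁻¹ * ρ r * ρ g) := by
          rw [map_mul, mul_assoc, he, mul_smul_comm, mul_assoc]
      _ = ρ (d0 ^ i)⁻¹ * (ρ (d0 ^ i) * ρ r) * ρ (d0 ^ i)⁻¹ * ρ g := by
          rw [h1, mul_smul_comm, smul_mul_assoc, smul_mul_assoc]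
          congr 1
          rw [← mul_assoc, mul_assoc _ (ρ (d0 ^ i)) (ρ (d0 ^ i)⁻¹), ← map_mul ρ (d0 ^ i), mul_inv_cancel, map_one,
            mul_one]
      _ = ρ r * ρ ((d0 ^ i)⁻¹ * g) := by
          rw [← mul_assoc _ (ρ (d0 ^ i)), ← map_mul ρ (d0 ^ i)⁻¹, inv_mul_cancel, map_one, one_mul, map_mul, mul_assoc]
  have hdp : d0 ^ p ∈ C := by
    show ρ (d0 ^ p) * ρ r = ρ r * ρ (d0 ^ p)
    rw [map_pow, pow_swap he0 p, he01, one_smul]
  -- the components
  have hinv : ∀ (l : k) (g : C), ∀ v ∈ Module.End.eigenspace (ρ r) l, ρ g v ∈ Module.End.eigenspace (ρ r) l := by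
    intro l g v hv
    rw [Module.End.mem_eigenspace_iff] at hv ⊢
    rw [← Module.End.mul_apply, ← (g.2 : ρ g * ρ r = ρ r * ρ g), Module.End.mul_apply, hv, map_smul]
  have hmove : ∀ (l : k) (v : U), ρ r v = l • v → ρ r (ρ d0 v) = (l / e0) • ρ d0 v := by
    intro l v hv
    have h1 := LinearMap.congr_fun he0 v
    rw [LinearMap.smul_apply, Module.End.mul_apply, Module.End.mul_apply, hv, map_smul] at h1
    rw [eq_comm, div_eq_inv_mul, mul_smul, inv_smul_eq_iff₀ (hroot.ne_zero hp.out.ne_zero)]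
    exact h1
  obtain ⟨l, v, hv0, hv⟩ := exists_eigen (ρ r)
  have hpk : (p : k) ≠ 0 := (IsPrimitiveRoot.neZero' hroot).out
  have hlt : Nat.card C < Nat.card H := by
    refine lt_of_le_of_ne (Subgroup.card_le_card_group C) fun e => hd0C ?_
    rw [Subgroup.eq_top_of_card_eq C e]; exact Subgroup.mem_top _
  haveI : (D.subgroupOf C).Normal := inferInstance
  have hD1 : D.subgroupOf C ≠ ⊤ := fun e => hD (eq_top_iff.mpr fun g _ => by
    obtain ⟨i, hi⟩ := hdec g
    have h1 : (d0 ^ i)⁻¹ * g ∈ D := Subgroup.subgroupOf_eq_top.mp e hi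
    exact (D.mul_mem_cancel_left (D.inv_mem (D.pow_mem hd0 i))).mp h1)
  have key : ∀ (l : k) (v : U), v ≠ 0 → ρ r v = l • v →
      p = 2 ∧ (∀ g : H, g ∈ C → g ∉ D → ρ (g * g) v = -v) ∧
        (∀ d : H, d ∈ C → d ∈ D → ρ d v = v ∨ ρ d v = -v) := by
    intro l v hv0 hv
    set E := Module.End.eigenspace (ρ r) l
    let σ : C →* Module.End k E :=
      { toFun := fun g => (ρ g).restrict (hinv l g)
        map_one' := by ext x; simp
        map_mul' := fun a b => by
          ext x
          show ρ ((a * b : C) : H) (x : U) = ρ a (ρ b (x : U))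
          rw [Subgroup.coe_mul, apply_mul] }
    have hvE : v ∈ E := Module.End.mem_eigenspace_iff.mpr hv
    haveI : Nontrivial E := nontrivial_of_ne ⟨v, hvE⟩ 0 (fun e => hv0 (congrArg Subtype.val e))
    have hl : l ≠ 0 := fun e => hv0 (by
      rw [← inv_apply_apply (ρ := ρ) r v, hv, e, zero_smul, map_zero])
    have hlp : l ^ p = c := by
      have h1 := pow_apply_eigen hv p
      rw [hc, LinearMap.smul_apply, Module.End.one_apply] at h1
      exact (smul_left_injective k hv0 h1).symm
    have hσ : Fpf σ (D.subgroupOf C) := by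
      constructor
      · intro g hg x hx
        exact Subtype.ext (h.fpf g hg x (congrArg Subtype.val hx))
      · intro f hf hcomm
        obtain ⟨F, hF, hFv⟩ : ∃ F ∈ Submodule.span k (ρ '' (D : Set H)), ∀ x : E, F (x : U) = f x := by
          clear hcomm
          induction hf using Submodule.span_induction with
          | mem a ha =>
            obtain ⟨g, hg, rfl⟩ := ha
            exact ⟨ρ g, Submodule.subset_span ⟨g, hg, rfl⟩, fun x => rfl⟩
          | zero => exact ⟨0, zero_mem _, fun x => rfl⟩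
          | add a b _ _ h1 h2 =>
            obtain ⟨A, hA, hA'⟩ := h1
            obtain ⟨B, hB, hB'⟩ := h2
            exact ⟨A + B, add_mem hA hB, fun x => by simp [hA', hB']⟩
          | smul t a _ h1 =>
            obtain ⟨A, hA, hA'⟩ := h1
            exact ⟨t • A, Submodule.smul_mem _ t hA, fun x => by simp [hA']⟩
        let π : Module.End k U := ∑ i ∈ Finset.range p, (l⁻¹) ^ i • ρ r ^ i
        have hπmem : π ∈ Submodule.span k (ρ '' (D : Set H)) := Submodule.sum_mem _ fun i _ =>
          Submodule.smul_mem _ _ (Submodule.subset_span ⟨r ^ i, D.pow_mem hrD i, map_pow ρ r i⟩)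
        have hπE : ∀ x : U, π x ∈ E := by
          intro x
          have h1 : (l⁻¹ • ρ r) * π = π := by
            have e1 : π = ∑ i ∈ Finset.range p, (l⁻¹ • ρ r) ^ i := by simp only [π, smul_pow]
            have e2 : (l⁻¹ • ρ r) ^ p = 1 := by
              rw [smul_pow, ← map_pow, hc, smul_smul, inv_pow, hlp, inv_mul_cancel₀ (scalar_ne_zero hc), one_smul]
            have e3 := mul_geom_sum (l⁻¹ • ρ r) p
            rw [e2, sub_self, sub_mul, one_mul, sub_eq_zero] at e3
            rw [e1]; exact e3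
          rw [Module.End.mem_eigenspace_iff]
          have h2 := LinearMap.congr_fun h1 x
          rw [Module.End.mul_apply, LinearMap.smul_apply, inv_smul_eq_iff₀ hl] at h2
          exact h2
        have hπv : ∀ (x : U) (w : k), ρ r x = w • x → π x = (∑ i ∈ Finset.range p, (l⁻¹ * w) ^ i) • x := by
          intro x w hx
          simp only [π, LinearMap.sum_apply, Finset.sum_smul, LinearMap.smul_apply]
          exact Finset.sum_congr rfl fun i _ => by rw [← map_pow, pow_apply_eigen hx, smul_smul, mul_pow]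
        have hFπ : ∀ d : H, d ∈ C → d ∈ D → ∀ x, F (π (ρ d x)) = ρ d (F (π x)) := by
          intro d hdC hdD x
          have h1 : π (ρ d x) = ρ d (π x) := by
            have hcd : Commute π (ρ d) := by
              apply Commute.sum_left
              intro i _
              exact (((hdC : Commute (ρ d) (ρ r)).symm.pow_left i).smul_left _)
            exact LinearMap.congr_fun hcd.eq x
          have h2 := LinearMap.congr_fun (hcomm ⟨d, hdC⟩ hdD) ⟨π x, hπE x⟩
          rw [h1]
          have h3 := congrArg Subtype.val h2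
          change (f (σ ⟨d, hdC⟩ ⟨π x, hπE x⟩) : U) = ρ d (f ⟨π x, hπE x⟩ : U) at h3
          rw [← hFv, ← hFv] at h3
          exact h3
        let G' : Module.End k U := ∑ i ∈ Finset.range p, ρ (d0 ^ i) * (F * π) * ρ (d0 ^ i)⁻¹
        obtain ⟨t, ht⟩ := h.hom G' (Submodule.sum_mem _ fun i _ =>
          span_mul (span_mul (Submodule.subset_span ⟨_, D.pow_mem hd0 i, rfl⟩) (span_mul hF hπmem))
            (Submodule.subset_span ⟨_, D.inv_mem (D.pow_mem hd0 i), rfl⟩)) (by
          have hterm : ∀ d : H, d ∈ C → d ∈ D → Commute (F * π) (ρ d) := fun d hdC hdD =>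
            LinearMap.ext fun x => hFπ d hdC hdD x
          have hC0 : ∀ d : H, d ∈ C → d ∈ D → Commute G' (ρ d) := by
            intro d hdC hdD
            apply Commute.sum_left
            intro i _
            have h1 := hterm ((d0 ^ i)⁻¹ * d * d0 ^ i) (by simpa using hCn (d0 ^ i)⁻¹ d hdC)
              (D.mul_mem (D.mul_mem (D.inv_mem (D.pow_mem hd0 i)) hdD) (D.pow_mem hd0 i))
            show ρ (d0 ^ i) * (F * π) * ρ (d0 ^ i)⁻¹ * ρ d = ρ d * (ρ (d0 ^ i) * (F * π) * ρ (d0 ^ i)⁻¹)
            calc ρ (d0 ^ i) * (F * π) * ρ (d0 ^ i)⁻¹ * ρ d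
                = ρ (d0 ^ i) * ((F * π) * ρ ((d0 ^ i)⁻¹ * d * d0 ^ i)) * ρ (d0 ^ i)⁻¹ := by
                  rw [mul_assoc _ (ρ (d0 ^ i)⁻¹), ← map_mul,
                    mul_assoc _ ((F * π) * _) (ρ (d0 ^ i)⁻¹), mul_assoc (F * π), ← map_mul]
                  rw [show (d0 ^ i)⁻¹ * d * d0 ^ i * (d0 ^ i)⁻¹ = (d0 ^ i)⁻¹ * d by group]
                  simp only [mul_assoc]
              _ = ρ d * (ρ (d0 ^ i) * (F * π) * ρ (d0 ^ i)⁻¹) := by
                  rw [h1.eq, ← mul_assoc (ρ (d0 ^ i)), ← map_mul,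
                    show d0 ^ i * ((d0 ^ i)⁻¹ * d * d0 ^ i) = d * d0 ^ i by group, map_mul]
                  simp only [mul_assoc]
          intro d hd
          obtain ⟨i, hi⟩ := hdec d
          have hd0c : Commute G' (ρ d0) := by
            show G' * ρ d0 = ρ d0 * G'
            let T : ℕ → Module.End k U := fun i => ρ (d0 ^ i) * (F * π) * ρ (d0 ^ i)⁻¹
            have hTp : T p = T 0 := by
              have h1 := hterm _ hdp (D.pow_mem hd0 p)
              simp only [T, pow_zero, inv_one, map_one, one_mul, mul_one]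
              rw [← h1.eq, mul_assoc, ← map_mul, mul_inv_cancel, map_one, mul_one]
            have hT : ∀ i, ρ d0 * T i * ρ d0⁻¹ = T (i + 1) := fun i => by
              simp only [T, pow_succ', mul_inv_rev, map_mul, mul_assoc]
            have h1 : ρ d0 * G' * ρ d0⁻¹ = G' := by
              show ρ d0 * (∑ i ∈ Finset.range p, T i) * ρ d0⁻¹ = ∑ i ∈ Finset.range p, T i
              rw [Finset.mul_sum, Finset.sum_mul, Finset.sum_congr rfl fun i _ => hT i]
              have h2 := Finset.sum_range_succ' T p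
              rw [Finset.sum_range_succ, hTp] at h2
              exact (add_right_cancel h2).symm
            conv_lhs => rw [← h1, mul_assoc, ← map_mul, inv_mul_cancel, map_one, mul_one]
          have h2 : Commute G' (ρ (d0 ^ i) * ρ ((d0 ^ i)⁻¹ * d)) := by
            refine Commute.mul_right ?_ (hC0 _ hi (D.mul_mem (D.inv_mem (D.pow_mem hd0 i)) hd))
            rw [map_pow]; exact hd0c.pow_right i
          rw [← map_mul, mul_inv_cancel_left] at h2
          exact h2.eq)
        refine ⟨t / p, LinearMap.ext fun x => Subtype.ext ?_⟩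
        have hx := Module.End.mem_eigenspace_iff.mp x.2
        have h1 := LinearMap.congr_fun ht (x : U)
        simp only [G', LinearMap.sum_apply, LinearMap.smul_apply, Module.End.one_apply] at h1
        rw [Finset.sum_eq_single_of_mem 0 (Finset.mem_range.mpr hp.out.pos) (fun i hi hi0 => ?_)] at h1
        · simp only [pow_zero, inv_one, map_one, one_mul, mul_one, Module.End.mul_apply] at h1
          rw [hπv _ l hx, inv_mul_cancel₀ hl] at h1
          simp only [one_pow, Finset.sum_const, Finset.card_range, nsmul_eq_mul, mul_one, map_smul, hFv] at h1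
          show (f x : U) = (t / p) • (x : U)
          rw [div_eq_inv_mul, mul_smul, ← h1, smul_smul, inv_mul_cancel₀ hpk, one_smul]
        · rw [Module.End.mul_apply, Module.End.mul_apply, Module.End.mul_apply]
          have hw : ρ r (ρ (d0 ^ i)⁻¹ (x : U)) = (l * e0 ^ i) • ρ (d0 ^ i)⁻¹ (x : U) := by
            have h2 := pow_swap he0 i
            rw [← map_pow] at h2
            have h3 := LinearMap.congr_fun h2 (ρ (d0 ^ i)⁻¹ (x : U))
            simp only [Module.End.mul_apply, LinearMap.smul_apply] at h3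
            rw [← apply_mul (ρ := ρ) (d0 ^ i) (d0 ^ i)⁻¹, mul_inv_cancel, map_one, Module.End.one_apply, hx] at h3
            have h4 := congrArg (ρ (d0 ^ i)⁻¹) h3
            rw [inv_apply_apply, map_smul, map_smul, ← mul_smul, ← mul_comm] at h4
            exact h4
          rw [hπv _ _ hw, ← mul_assoc, inv_mul_cancel₀ hl, one_mul]
          have h5 : e0 ^ i ≠ 1 := hroot.pow_ne_one_of_pos_of_lt hi0 (Finset.mem_range.mp hi)
          have h6 : ∑ j ∈ Finset.range p, (e0 ^ i) ^ j = 0 := by
            have h7 := mul_geom_sum (e0 ^ i) p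
            rw [← pow_mul, mul_comm i p, pow_mul, he01, one_pow, sub_self, mul_eq_zero] at h7
            exact h7.resolve_left (sub_ne_zero.mpr h5)
          rw [h6, zero_smul, map_zero, map_zero]
      · intro x hx
        obtain ⟨w, hw1, hw2⟩ := h.cent x hx
        obtain ⟨i, hi⟩ := hdec w
        refine ⟨⟨_, hi⟩, ?_, fun hh => hw2 ?_⟩
        · show (x : H) * ((d0 ^ i)⁻¹ * w) * (x : H)⁻¹ * ((d0 ^ i)⁻¹ * w)⁻¹ ∈ D
          rw [← QuotientGroup.eq_one_iff]
          have h1 : ((d0 ^ i : H) : H ⧸ D) = 1 := (QuotientGroup.eq_one_iff _).mpr (D.pow_mem hd0 i)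
          have h2 := (QuotientGroup.eq_one_iff _).mpr hw1
          simp only [QuotientGroup.mk_mul, QuotientGroup.mk_inv, h1, inv_one, one_mul, mul_inv_rev, mul_one] at h2 ⊢
          exact h2
        · have h1 := Subgroup.mem_map_of_mem C.subtype hh
          rw [Subgroup.map_sup, MonoidHom.map_zpowers] at h1
          have h2 : (d0 ^ i)⁻¹ * w ∈ Subgroup.zpowers (x : H) ⊔ D :=
            (sup_le_sup_left (Subgroup.map_le_iff_le_comap.mpr fun z hz => hz) _) h1
          exact (Subgroup.mul_mem_cancel_left _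
            (inv_mem (Subgroup.mem_sup_right (D.pow_mem hd0 i)))).mp h2
    have hres := ih σ (D.subgroupOf C) (by omega) hσ (hH.to_subgroup C) hD1
    refine ⟨hres.two, fun g hgC hgD => congrArg Subtype.val (LinearMap.congr_fun (hres.sq ⟨g, hgC⟩ hgD) ⟨v, hvE⟩),
      fun d hdC hdD => ?_⟩
    rcases hres.sign ⟨d, hdC⟩ hdD with e | e
    · exact Or.inl (congrArg Subtype.val (LinearMap.congr_fun e ⟨v, hvE⟩))
    · exact Or.inr (congrArg Subtype.val (LinearMap.congr_fun e ⟨v, hvE⟩))
  obtain ⟨hp2, hsqv, hsgn⟩ := key l v hv0 hv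
  subst hp2
  have he0m : e0 = -1 := (sq_eq_one_iff.mp he01).resolve_left he0ne
  have hv2 : ρ r (ρ d0 v) = (-l) • ρ d0 v := by
    rw [hmove l v hv, he0m, div_neg, div_one]
  have hrC : r ∈ C := Commute.refl _
  have h2k : (2 : k) ≠ 0 := by exact_mod_cast hpk
  have hl1 : l * l = 1 := by
    rcases hsgn r hrC hrD with e | e <;> rw [hv] at e
    · have h1 : l = 1 := smul_left_injective k hv0 (show l • v = (1 : k) • v by rw [one_smul]; exact e)
      rw [h1, one_mul]
    · have h1 : l = -1 := smul_left_injective k hv0 (show l • v = (-1 : k) • v by rw [neg_one_smul]; exact e)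
      rw [h1]; ring
  obtain ⟨x, hxC, hxD⟩ : ∃ x ∈ C, x ∉ D := by
    by_contra hne
    push Not at hne
    exact hD1 (Subgroup.subgroupOf_eq_top.mpr hne)
  set t := x⁻¹ * d0 * x * d0⁻¹
  have htC : t ∈ C := by
    have h1 : t = x⁻¹ * (d0 * x * d0⁻¹) := by simp [t, mul_assoc]
    rw [h1]; exact C.mul_mem (C.inv_mem hxC) (hCn d0 x hxC)
  have htD : t ∈ D := by
    refine D.mul_mem ?_ (D.inv_mem hd0)
    simpa using ‹D.Normal›.conj_mem d0 hd0 x⁻¹
  obtain ⟨s, hs2, hsv⟩ : ∃ s : k, s * s = 1 ∧ ρ (x * d0 * (x * d0)) v = s • v := by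
    rw [show x * d0 * (x * d0) = x * x * (t * (d0 * d0)) by simp [t, mul_assoc]]
    rw [apply_mul, apply_mul t]
    rcases hsgn (d0 * d0) (by rw [← pow_two]; exact hdp) (D.mul_mem hd0 hd0) with e | e <;> rw [e] <;>
      rcases hsgn t htC htD with e' | e' <;> simp only [map_neg, e', hsqv x hxC hxD, neg_neg] <;>
      first | exact ⟨1, by ring, (one_smul k v).symm⟩ | exact ⟨-1, by ring, (neg_one_smul k v).symm⟩
  have hfix : ∀ Y : H, Y ∉ D → ρ r (ρ Y v) = (-l) • ρ Y v → ρ (Y * Y) v = v → False := by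
    intro Y hY hY2 hYY
    have hsum := h.fpf Y hY (v + ρ Y v) (by rw [map_add, ← apply_mul, hYY, add_comm])
    have h1 : ρ Y v = -v := eq_neg_of_add_eq_zero_right hsum
    rw [h1, map_neg, hv, smul_neg, neg_smul, neg_neg, neg_eq_iff_add_eq_zero, ← two_smul k, smul_smul] at hY2
    rcases smul_eq_zero.mp hY2 with e | e
    · exact mul_ne_zero h2k (left_ne_zero_of_mul_eq_one hl1) e
    · exact hv0 e
  have hxr : ∀ z, ρ r (ρ x z) = ρ x (ρ r z) := fun z => (LinearMap.congr_fun (hxC : Commute (ρ x) (ρ r)).eq z).symm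
  have hxd : x * d0 ∉ D := fun e => hxD ((D.mul_mem_cancel_right hd0).mp e)
  rcases (mul_self_eq_one_iff).mp hs2 with rfl | rfl
  · refine hfix (x * d0) hxd ?_ (by rw [hsv, one_smul])
    rw [apply_mul, hxr, hv2, map_smul]
  · refine hfix (x * d0 * r) (fun e => hxd ((D.mul_mem_cancel_right hrD).mp e)) ?_ ?_
    · rw [apply_mul, hv, map_smul, map_smul, apply_mul, hxr, hv2, map_smul, smul_comm]
    · simp only [apply_mul] at hsv ⊢
      rw [hv, map_smul, map_smul, map_smul, hxr, hv2]
      simp only [map_smul]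
      rw [hsv, smul_smul, smul_smul]
      rw [show l * (-l) * -1 = l * l by ring, hl1, one_smul]

end CfsgLib.Camina.Module
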