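import Mathlib

/-!
A permutation of `p`-power order is determined, as far as its number of fixed points goes, by the linear map it
induces on functions.
-/

set_option autoImplicit false

namespace CfsgLib.Camina.Module

universe u v

variable {k : Type v} [Field k] {X : Type u}

/-- Functions multiplied by `l` along the permutation. -/
def eigenFun (e : Equiv.Perm X) (l : k) : Submodule k (X → k) where
  carrier := {f | ∀ x, f (e x) = l * f x}
  add_mem' ha hb := fun x => by simp [ha x, hb x, mul_add]
  zero_mem' := fun x => by simp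
  smul_mem' c f hf := fun x => by simp [hf x, mul_left_comm]

theorem exists_primitive [IsAlgClosed k] {p : ℕ} [hp : Fact p.Prime] (hpk : (p : k) ≠ 0) :
    ∃ z : k, IsPrimitiveRoot z p := by
  haveI : NeZero (p : k) := ⟨hpk⟩
  obtain ⟨z, hz⟩ := IsAlgClosed.exists_root (Polynomial.cyclotomic p k)
    (Polynomial.degree_cyclotomic_pos p k hp.out.pos).ne'
  exact ⟨z, Polynomial.isRoot_cyclotomic_iff.mp hz⟩

theorem finrank_eigenFun [Finite X] [IsAlgClosed k] {p : ℕ} [hp : Fact p.Prime] {z : k} (hz : IsPrimitiveRoot z p)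
    (e : Equiv.Perm X) {m : ℕ} (he : e ^ p ^ m = 1) :
    Module.finrank k (eigenFun e (1 : k)) = Nat.card {x // e x = x} + Module.finrank k (eigenFun e z) := by
  classical
  haveI := Fintype.ofFinite X
  have hz1 : z ≠ 1 := hz.ne_one hp.out.one_lt
  let R : eigenFun e (1 : k) →ₗ[k] ({x // e x = x} → k) :=
    { toFun := fun f x => (f : X → k) x
      map_add' := fun f g => rfl
      map_smul' := fun c f => rfl }
  have hsur : Function.Surjective R := by
    intro g
    refine ⟨⟨fun x => if h : e x = x then g ⟨x, h⟩ else 0, fun x => ?_⟩, funext fun x => ?_⟩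
    · beta_reduce
      rw [one_mul]
      by_cases h : e x = x
      · simp only [h]
      · rw [dif_neg h, dif_neg fun h' => h (e.injective h')]
    · show (if h : e x = x then g ⟨x, h⟩ else 0) = g x
      rw [dif_pos x.2]
  have hsplit := R.finrank_range_add_finrank_ker
  rw [LinearMap.range_eq_top.mpr hsur, finrank_top, Module.finrank_pi, ← Nat.card_eq_fintype_card] at hsplit
  rw [← hsplit]
  congr 1
  -- a nowhere zero twisting function on the moved points
  let rep : X → X := fun x => (Quotient.mk (Equiv.Perm.SameCycle.setoid e) x).out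
  have hrep : ∀ x, e.SameCycle (rep x) x := fun x => Quotient.mk_out (s := Equiv.Perm.SameCycle.setoid e) x
  have hwd : ∀ (x : X) (a b : ℤ), e x ≠ x → (e ^ a) (rep x) = x → (e ^ b) (rep x) = x → z ^ a = z ^ b := by
    intro x a b hx ha hb
    have hd : (p : ℤ) ∣ a - b := by
      by_contra hd
      refine hx ?_
      obtain ⟨s, t, hst⟩ : IsCoprime (a - b) ((p : ℤ) ^ m) :=
        ((Nat.prime_iff_prime_int.mp hp.out).coprime_iff_not_dvd.mpr hd).symm.pow_right
      have h1 : (e ^ (a - b)) x = x := by
        nth_rw 1 [← hb]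
        rw [← Equiv.Perm.mul_apply, ← zpow_add, sub_add_cancel]; exact ha
      have h2 : (e ^ (s * (a - b) + t * (p : ℤ) ^ m)) x = x := by
        rw [zpow_add, Equiv.Perm.mul_apply, mul_comm t, zpow_mul e ((p : ℤ) ^ m) t, ← Nat.cast_pow, zpow_natCast, he, one_zpow,
          Equiv.Perm.one_apply, mul_comm s, zpow_mul e (a - b) s]
        exact Equiv.Perm.zpow_apply_eq_self_of_apply_eq_self h1 s
      rwa [hst, zpow_one] at h2
    obtain ⟨c, hc⟩ := hd
    rw [show a = b + p * c by omega, zpow_add₀ (hz.ne_zero hp.out.ne_zero), zpow_mul, zpow_natCast, hz.pow_eq_one,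
      one_zpow, mul_one]
  let φ : X → k := fun x => z ^ (hrep x).choose
  have hφ0 : ∀ x, φ x ≠ 0 := fun x => zpow_ne_zero _ (hz.ne_zero hp.out.ne_zero)
  have hφ : ∀ x, e x ≠ x → φ (e x) = z * φ x := by
    intro x hx
    have hr : rep (e x) = rep x := congrArg Quotient.out (Quotient.sound (s := Equiv.Perm.SameCycle.setoid e)
      ((Equiv.Perm.sameCycle_apply_left).mpr (Equiv.Perm.SameCycle.refl e x)))
    have h1 := hwd (e x) (hrep (e x)).choose (1 + (hrep x).choose) (fun h => hx (e.injective h))
      (hrep (e x)).choose_spec (by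
        rw [hr, zpow_add, zpow_one, Equiv.Perm.mul_apply, (hrep x).choose_spec])
    show z ^ (hrep (e x)).choose = z * z ^ (hrep x).choose
    rw [h1, zpow_add₀ (hz.ne_zero hp.out.ne_zero), zpow_one]
  have hvan : ∀ (g : eigenFun e z) (x : X), e x = x → (g : X → k) x = 0 := fun g x hx => by
    have := g.2 x
    rw [hx] at this
    by_contra hne
    exact hz1 (mul_right_cancel₀ hne (this.symm.trans (one_mul _).symm))
  refine LinearEquiv.finrank_eq
    { toFun := fun f => ⟨fun x => φ x * ((f : eigenFun e (1 : k)) : X → k) x, fun x => ?_⟩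
      map_add' := fun f g => Subtype.ext (funext fun x => mul_add _ _ _)
      map_smul' := fun c f => Subtype.ext (funext fun x => by
        show φ x * (c * _) = c * (φ x * _)
        ring)
      invFun := fun g => ⟨⟨fun x => (φ x)⁻¹ * (g : X → k) x, fun x => ?_⟩, ?_⟩
      left_inv := fun f => Subtype.ext (Subtype.ext (funext fun x => inv_mul_cancel_left₀ (hφ0 x) _))
      right_inv := fun g => Subtype.ext (funext fun x => mul_inv_cancel_left₀ (hφ0 x) _) }
  · have h1 : ((f : eigenFun e (1 : k)) : X → k) (e x) = ((f : eigenFun e (1 : k)) : X → k) x :=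
      ((f : eigenFun e (1 : k)).2 x).trans (one_mul _)
    beta_reduce
    by_cases hx : e x = x
    · have h2 : ((f : eigenFun e (1 : k)) : X → k) x = 0 := congrFun (LinearMap.mem_ker.mp f.2) ⟨x, hx⟩
      rw [hx, h2]; simp
    · rw [hφ x hx, h1, mul_assoc]
  · beta_reduce
    rw [one_mul]
    by_cases hx : e x = x
    · rw [hx]
    · rw [hφ x hx, g.2 x, mul_inv, mul_mul_mul_comm, inv_mul_cancel₀ (hz.ne_zero hp.out.ne_zero), one_mul]
  · refine LinearMap.mem_ker.mpr (funext fun x => ?_)
    show (φ x)⁻¹ * (g : X → k) x = 0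
    rw [hvan g x x.2, mul_zero]

/-- An intertwining linear equivalence preserves the number of fixed points. -/
theorem card_fixed_eq [IsAlgClosed k] {Y : Type*} [Finite X] [Finite Y] {p : ℕ} [hp : Fact p.Prime]
    (hpk : (p : k) ≠ 0) (e : Equiv.Perm X) (f : Equiv.Perm Y) {m : ℕ} (he : e ^ p ^ m = 1) (hf : f ^ p ^ m = 1)
    (Φ : (X → k) ≃ₗ[k] (Y → k)) (hΦ : ∀ g, Φ (g ∘ e) = Φ g ∘ f) :
    Nat.card {x // e x = x} = Nat.card {y // f y = y} := by
  haveI := Fintype.ofFinite X
  haveI := Fintype.ofFinite Y
  obtain ⟨z, hz⟩ := exists_primitive hpk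
  have hmap : ∀ l : k, Module.finrank k (eigenFun e l) = Module.finrank k (eigenFun f l) := by
    intro l
    refine (Φ.ofSubmodules (eigenFun e l) (eigenFun f l) (le_antisymm ?_ ?_)).finrank_eq
    · rintro _ ⟨g, hg, rfl⟩ y
      have h1 := congrFun (hΦ g) y
      rw [show g ∘ e = l • g from funext hg, map_smul] at h1
      exact h1.symm
    · intro g hg
      refine ⟨Φ.symm g, fun x => ?_, Φ.apply_symm_apply g⟩
      have h1 : Φ (Φ.symm g ∘ e) = Φ (l • Φ.symm g) := by
        rw [hΦ, map_smul, Φ.apply_symm_apply]; exact funext hg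
      exact congrFun (Φ.injective h1) x
  have h1 := finrank_eigenFun hz e he
  have h2 := finrank_eigenFun hz f hf
  rw [hmap 1, hmap z] at h1
  omega

end CfsgLib.Camina.Module
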