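import Mathlib
import Cfsg.Agent.Lib.Camina.Module.Perm

/-!
The points of the algebra of class functions of a normal subgroup `R` invariant under a larger normal subgroup:
they are as many as the classes, the restriction to a subgroup of index `p` has fibres of size at most `p`, and an
element fixes at most as many of them as it centralizes elements.
-/

set_option autoImplicit false
set_option linter.unusedSectionVars false

namespace CfsgLib.Camina.Module

open MonoidAlgebra

universe u v

variable (k : Type v) [Field k] {P : Type u} [Group P]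

/-- The elements supported on `R` fixed under conjugation by `P0`. -/
noncomputable def classAlg (P0 R : Subgroup P) : Subalgebra k (MonoidAlgebra k P) where
  carrier := {f | (∀ x, f.coeff x ≠ 0 → x ∈ R) ∧ ∀ u ∈ P0, domCongr k k (MulAut.conj u) f = f}
  mul_mem' := by
    classical
    rintro a b ⟨ha, ha'⟩ ⟨hb, hb'⟩
    refine ⟨fun x hx => ?_, fun u hu => by rw [map_mul, ha' u hu, hb' u hu]⟩
    obtain ⟨y, hy, z, hz, rfl⟩ := Finset.mem_mul.mp (MonoidAlgebra.support_coeff_mul_subset a b (Finsupp.mem_support_iff.mpr hx))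
    exact R.mul_mem (ha y (Finsupp.mem_support_iff.mp hy)) (hb z (Finsupp.mem_support_iff.mp hz))
  add_mem' := by
    rintro a b ⟨ha, ha'⟩ ⟨hb, hb'⟩
    refine ⟨fun x hx => ?_, fun u hu => by rw [map_add, ha' u hu, hb' u hu]⟩
    by_cases h : a.coeff x = 0
    · exact hb x (fun h' => hx (by simp [h, h']))
    · exact ha x h
  algebraMap_mem' := by
    classical
    intro c
    refine ⟨fun x hx => ?_, fun u _ => AlgEquiv.commutes _ c⟩
    by_contra h
    refine hx ?_
    have h1 : (1 : P) ≠ x := fun e => h (e ▸ R.one_mem)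
    simp [MonoidAlgebra.coe_algebraMap, h1]

/-- The points of the class algebra. -/
abbrev Points (P0 R : Subgroup P) := classAlg k P0 R →ₐ[k] k

variable {k} {P0 R : Subgroup P}

theorem coeff_domCongr' (g : P) (f : MonoidAlgebra k P) (x : P) :
    (domCongr k k (MulAut.conj g) f).coeff x = f.coeff (g⁻¹ * x * g) := by
  rw [coeff_domCongr, MulAut.conj_symm_apply]

theorem domCongr_conj_mul (g h : P) (f : MonoidAlgebra k P) :
    domCongr k k (MulAut.conj (g * h)) f = domCongr k k (MulAut.conj g) (domCongr k k (MulAut.conj h) f) := by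
  refine MonoidAlgebra.ext (Finsupp.ext fun x => ?_)
  simp only [coeff_domCongr', mul_inv_rev, mul_assoc]

variable [P0.Normal] [R.Normal]

theorem conj_mem (g : P) {f : MonoidAlgebra k P} (hf : f ∈ classAlg k P0 R) :
    domCongr k k (MulAut.conj g) f ∈ classAlg k P0 R := by
  refine ⟨fun x hx => ?_, fun u hu => ?_⟩
  · rw [coeff_domCongr'] at hx
    simpa [mul_assoc] using ‹R.Normal›.conj_mem _ (hf.1 _ hx) g
  · rw [← domCongr_conj_mul, show u * g = g * (g⁻¹ * u * g) by group, domCongr_conj_mul,
      hf.2 _ (by simpa using ‹P0.Normal›.conj_mem u hu g⁻¹)]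

/-- Conjugation as an endomorphism of the class algebra. -/
noncomputable def conjHom (g : P) : classAlg k P0 R →ₐ[k] classAlg k P0 R :=
  ((domCongr k k (MulAut.conj g)).toAlgHom.comp (classAlg k P0 R).val).codRestrict _ fun f => conj_mem g f.2

noncomputable instance : MulAction P (Points k P0 R) where
  smul g χ := χ.comp (conjHom g⁻¹)
  one_smul χ := by
    refine AlgHom.ext fun f => congrArg χ (Subtype.ext ?_)
    show domCongr k k (MulAut.conj (1 : P)⁻¹) (f : MonoidAlgebra k P) = f
    exact MonoidAlgebra.ext (Finsupp.ext fun x => by rw [coeff_domCongr']; simp)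
  mul_smul g h χ := by
    refine AlgHom.ext fun f => congrArg χ (Subtype.ext ?_)
    show domCongr k k (MulAut.conj (g * h)⁻¹) (f : MonoidAlgebra k P) =
      domCongr k k (MulAut.conj h⁻¹) (domCongr k k (MulAut.conj g⁻¹) f)
    rw [mul_inv_rev, domCongr_conj_mul]

theorem smul_def (g : P) (χ : Points k P0 R) (f : classAlg k P0 R) : (g • χ) f = χ (conjHom g⁻¹ f) := rfl

theorem le_stabilizer (χ : Points k P0 R) : P0 ≤ MulAction.stabilizer P χ := fun u hu =>
  AlgHom.ext fun f => congrArg χ (Subtype.ext (f.2.2 _ (P0.inv_mem hu)))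

theorem coeff_conj {f : MonoidAlgebra k P} (hf : f ∈ classAlg k P0 R) {u : P} (hu : u ∈ P0) (x : P) :
    f.coeff (u⁻¹ * x * u) = f.coeff x := by
  have := congrArg (fun g : MonoidAlgebra k P => g.coeff x) (hf.2 u hu)
  simpa [coeff_domCongr'] using this

theorem mul_single_comm {f : MonoidAlgebra k P} (hf : f ∈ classAlg k P0 R) {u : P} (hu : u ∈ P0) :
    Commute f (single u 1) := by
  refine MonoidAlgebra.ext (Finsupp.ext fun x => ?_)
  rw [coeff_mul_single_apply, coeff_single_mul_apply, mul_one, one_mul, ← coeff_conj hf hu (x * u⁻¹)]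
  simp [mul_assoc]

variable [Finite P]

instance : Module.Finite k (classAlg k P0 R) := by
  haveI : Module.Finite k (MonoidAlgebra k P) := Module.Finite.of_basis (MonoidAlgebra.basis P k)
  exact FiniteDimensional.finiteDimensional_subalgebra _

theorem commute (hRP : R ≤ P0) (a b : classAlg k P0 R) : Commute a b := by
  refine Subtype.ext ?_
  show (a : MonoidAlgebra k P) * b = b * a
  haveI := Fintype.ofFinite P
  classical
  have hb : (b : MonoidAlgebra k P) = ∑ x, single x ((b : MonoidAlgebra k P).coeff x) := by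
    refine MonoidAlgebra.ext (Finsupp.ext fun y => ?_)
    simp [Finsupp.single_apply]
  rw [hb, Finset.mul_sum, Finset.sum_mul]
  refine Finset.sum_congr rfl fun x _ => ?_
  by_cases hx : (b : MonoidAlgebra k P).coeff x = 0
  · simp [hx]
  · rw [show single x ((b : MonoidAlgebra k P).coeff x) = (b : MonoidAlgebra k P).coeff x • single x (1 : k) by
      simp, mul_smul_comm, smul_mul_assoc, (mul_single_comm a.2 (hRP (b.2.1 x hx))).eq]

theorem eq_zero_of_isNilpotent (hRP : R ≤ P0) (hP : (Nat.card P : k) ≠ 0) {f : MonoidAlgebra k P}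
    (hf : f ∈ classAlg k P0 R) (hn : IsNilpotent f) : f = 0 := by
  classical
  haveI := Fintype.ofFinite P
  refine MonoidAlgebra.ext (Finsupp.ext fun x => ?_)
  by_cases hx : x ∈ R
  · set g := f * single x⁻¹ 1
    have hg : IsNilpotent g := (mul_single_comm hf (P0.inv_mem (hRP hx))).isNilpotent_mul_right hn
    have h1 : IsNilpotent (LinearMap.mulLeft k g) := LinearMap.isNilpotent_mulLeft_iff (R := k) g |>.mpr hg
    have h2 := LinearMap.trace_eq_matrix_trace k (MonoidAlgebra.basis P k) (LinearMap.mulLeft k g)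
    rw [(LinearMap.isNilpotent_trace_of_isNilpotent h1).eq_zero] at h2
    have h3 : ∀ y : P, LinearMap.toMatrix (MonoidAlgebra.basis P k) (MonoidAlgebra.basis P k)
        (LinearMap.mulLeft k g) y y = g.coeff 1 := by
      intro y
      rw [LinearMap.toMatrix_apply, LinearMap.mulLeft_apply]
      show (g * single y 1).coeff y = _
      rw [coeff_mul_single_apply, mul_one, mul_inv_cancel]
    rw [Matrix.trace, Finset.sum_congr rfl (fun y _ => (show Matrix.diag _ y = g.coeff 1 from h3 y)),
      Finset.sum_const, Finset.card_univ, nsmul_eq_mul, ← Nat.card_eq_fintype_card, eq_comm, mul_eq_zero] at h2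
    have h4 : g.coeff 1 = 0 := h2.resolve_left hP
    rw [coeff_mul_single_apply, mul_one, inv_inv, one_mul] at h4
    simpa using h4
  · by_contra h
    exact hx (hf.1 x (by simpa using h))

/-- The classes of `R` under `P0`. -/
def classSetoid (P0 R : Subgroup P) : Setoid R where
  r a b := ∃ u ∈ P0, u * (a : P) * u⁻¹ = b
  iseqv :=
    ⟨fun a => ⟨1, P0.one_mem, by simp⟩,
      fun {a b} ⟨u, hu, h⟩ => ⟨u⁻¹, P0.inv_mem hu, by rw [← h]; group⟩,
      fun {a b c} ⟨u, hu, h⟩ ⟨w, hw, h'⟩ => ⟨w * u, P0.mul_mem hw hu, by rw [← h', ← h]; group⟩⟩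

/-- Conjugation on the classes. -/
def classMap (g : P) : Equiv.Perm (Quotient (classSetoid P0 R)) where
  toFun := Quotient.map (fun a => ⟨g * a * g⁻¹, ‹R.Normal›.conj_mem _ a.2 g⟩) fun a b ⟨u, hu, h⟩ =>
    ⟨g * u * g⁻¹, ‹P0.Normal›.conj_mem u hu g, by
      show g * u * g⁻¹ * (g * (a : P) * g⁻¹) * (g * u * g⁻¹)⁻¹ = g * (b : P) * g⁻¹
      rw [← h]; group⟩
  invFun := Quotient.map (fun a => ⟨g⁻¹ * a * g, by simpa using ‹R.Normal›.conj_mem _ a.2 g⁻¹⟩) fun a b ⟨u, hu, h⟩ =>
    ⟨g⁻¹ * u * g, by simpa using ‹P0.Normal›.conj_mem u hu g⁻¹, by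
      show g⁻¹ * u * g * (g⁻¹ * (a : P) * g) * (g⁻¹ * u * g)⁻¹ = g⁻¹ * (b : P) * g
      rw [← h]; group⟩
  left_inv q := Quotient.inductionOn q fun a => congrArg (Quotient.mk _) (Subtype.ext (by
    show g⁻¹ * (g * (a : P) * g⁻¹) * g = a
    group))
  right_inv q := Quotient.inductionOn q fun a => congrArg (Quotient.mk _) (Subtype.ext (by
    show g * (g⁻¹ * (a : P) * g) * g⁻¹ = a
    group))

theorem classMap_one : classMap (P0 := P0) (R := R) 1 = 1 :=
  Equiv.ext fun q => Quotient.inductionOn q fun a => congrArg (Quotient.mk _) (Subtype.ext (by simp))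

theorem classMap_mul (g h : P) : classMap (P0 := P0) (R := R) (g * h) = classMap g * classMap h :=
  Equiv.ext fun q => Quotient.inductionOn q fun a => congrArg (Quotient.mk _) (Subtype.ext (by simp [mul_assoc]))

theorem classMap_pow (g : P) (n : ℕ) : classMap (P0 := P0) (R := R) (g ^ n) = classMap g ^ n := by
  induction n with
  | zero => simp [classMap_one]
  | succ n ih => rw [pow_succ, pow_succ, classMap_mul, ih]

/-- An element of the class algebra as a function on classes. -/
noncomputable def classCoeff : classAlg k P0 R →ₗ[k] (Quotient (classSetoid P0 R) → k) where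
  toFun f := Quotient.lift (fun a : R => (f : MonoidAlgebra k P).coeff a) fun a b ⟨u, hu, h⟩ => by
    rw [← coeff_conj f.2 hu (b : P), ← h]
    simp [mul_assoc]
  map_add' f g := funext fun q => Quotient.inductionOn q fun a => by simp
  map_smul' c f := funext fun q => Quotient.inductionOn q fun a => by simp

theorem classCoeff_bijective (hRP : R ≤ P0) : Function.Bijective (classCoeff (k := k) (P0 := P0) (R := R)) := by
  classical
  refine ⟨fun f g h => Subtype.ext (MonoidAlgebra.ext (Finsupp.ext fun x => ?_)), fun F => ?_⟩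
  · by_cases hx : x ∈ R
    · exact congrFun h (Quotient.mk _ ⟨x, hx⟩)
    · rw [not_ne_iff.mp fun h1 => hx (f.2.1 x h1), not_ne_iff.mp fun h1 => hx (g.2.1 x h1)]
  · let c : P → k := fun x => if hx : x ∈ R then F (Quotient.mk _ ⟨x, hx⟩) else 0
    let f : MonoidAlgebra k P := MonoidAlgebra.ofCoeff (Finsupp.equivFunOnFinite.symm c)
    have hc : ∀ x, f.coeff x = c x := fun x => rfl
    refine ⟨⟨f, fun x hx => ?_, fun u hu => MonoidAlgebra.ext (Finsupp.ext fun x => ?_)⟩, funext fun q => ?_⟩
    · by_contra h; exact hx (by rw [hc]; exact dif_neg h)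
    · rw [coeff_domCongr', hc, hc]
      by_cases hx : x ∈ R
      · have h1 : u⁻¹ * x * u ∈ R := by simpa using ‹R.Normal›.conj_mem x hx u⁻¹
        simp only [c, dif_pos h1, dif_pos hx]
        exact congrArg F (Quotient.sound ⟨u, hu, by group⟩)
      · have h1 : u⁻¹ * x * u ∉ R := fun h => hx (by simpa [mul_assoc] using ‹R.Normal›.conj_mem _ h u)
        simp only [c, dif_neg h1, dif_neg hx]
    · induction q using Quotient.inductionOn with
      | _ a => show f.coeff (a : P) = _; rw [hc]; exact dif_pos a.2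

theorem linearIndependent_points : LinearIndependent k (fun χ : Points k P0 R => χ.toLinearMap) := by
  have h := (linearIndependent_monoidHom (classAlg k P0 R) k).comp
    (fun χ : Points k P0 R => (χ : classAlg k P0 R →* k)) (fun a b hab => AlgHom.ext fun x => DFunLike.congr_fun hab x)
  exact h.of_comp
    { toFun := fun φ : classAlg k P0 R →ₗ[k] k => (φ : classAlg k P0 R → k)
      map_add' := fun _ _ => rfl
      map_smul' := fun _ _ => rfl }

instance : Finite (Points k P0 R) := linearIndependent_points.finite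

variable [IsAlgClosed k]

theorem exists_point_ne_zero (hRP : R ≤ P0) (hP : (Nat.card P : k) ≠ 0) {f : classAlg k P0 R} (hf : f ≠ 0) :
    ∃ χ : Points k P0 R, χ f ≠ 0 := by
  letI : CommRing (classAlg k P0 R) :=
    { (inferInstance : Ring (classAlg k P0 R)) with mul_comm := fun a b => (commute hRP a b).eq }
  have hn : ¬ IsNilpotent f := fun h => hf (Subtype.ext
    (eq_zero_of_isNilpotent hRP hP f.2 (h.map (classAlg k P0 R).val)))
  rw [nilpotent_iff_mem_prime] at hn
  push Not at hn
  obtain ⟨J, hJ, hfJ⟩ := hn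
  haveI := hJ
  haveI : IsDomain (classAlg k P0 R ⧸ J) := Ideal.Quotient.isDomain J
  haveI : Algebra.IsIntegral k (classAlg k P0 R ⧸ J) := Algebra.IsIntegral.of_finite k _
  refine ⟨((AlgEquiv.ofBijective (Algebra.ofId k (classAlg k P0 R ⧸ J))
    IsAlgClosed.algebraMap_bijective_of_isIntegral).symm.toAlgHom).comp (Ideal.Quotient.mkₐ k J), fun h => hfJ ?_⟩
  rw [AlgHom.comp_apply] at h
  exact Ideal.Quotient.eq_zero_iff_mem.mp
    ((EmbeddingLike.map_eq_zero_iff (f := (AlgEquiv.ofBijective (Algebra.ofId k (classAlg k P0 R ⧸ J))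
      IsAlgClosed.algebraMap_bijective_of_isIntegral).symm)).mp h)

/-- **Fixed points equal fixed classes.** -/
theorem card_fixed_points {p : ℕ} [hp : Fact p.Prime] (hPg : IsPGroup p P) (hpk : (p : k) ≠ 0) (hRP : R ≤ P0) (g : P) :
    Nat.card {χ : Points k P0 R // g • χ = χ} =
      Nat.card {q : Quotient (classSetoid P0 R) // classMap g q = q} := by
  haveI := Fintype.ofFinite (Points k P0 R)
  haveI := Fintype.ofFinite (Quotient (classSetoid P0 R))
  obtain ⟨j, hj⟩ := IsPGroup.iff_card.mp hPg
  have hP : (Nat.card P : k) ≠ 0 := by rw [hj, Nat.cast_pow]; exact pow_ne_zero _ hpk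
  obtain ⟨m, hm⟩ := hPg g
  let ev : classAlg k P0 R →ₗ[k] (Points k P0 R → k) := LinearMap.pi fun χ => χ.toLinearMap
  have hinj : Function.Injective ev := by
    refine (injective_iff_map_eq_zero ev).mpr fun f hf => ?_
    by_contra h
    obtain ⟨χ, hχ⟩ := exists_point_ne_zero hRP hP h
    exact hχ (congrFun hf χ)
  have hle : Fintype.card (Points k P0 R) ≤ Module.finrank k (classAlg k P0 R) := by
    rw [← Subspace.dual_finrank_eq]
    exact linearIndependent_points.fintype_card_le_finrank
  have hbij : Function.Bijective ev := by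
    refine ⟨hinj, LinearMap.range_eq_top.mp (Submodule.eq_top_of_finrank_eq (le_antisymm (Submodule.finrank_le _) ?_))⟩
    rw [Module.finrank_pi, LinearMap.finrank_range_of_inj hinj]
    exact hle
  let L := LinearEquiv.ofBijective classCoeff (classCoeff_bijective (k := k) hRP)
  let Φ : (Quotient (classSetoid P0 R) → k) ≃ₗ[k] (Points k P0 R → k) :=
    L.symm.trans (LinearEquiv.ofBijective ev hbij)
  let act : Equiv.Perm (Points k P0 R) := MulAction.toPermHom P (Points k P0 R) g
  refine (card_fixed_eq hpk (classMap g) act (m := m) (by rw [← classMap_pow, hm, classMap_one])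
    (by rw [← map_pow, hm, map_one]) Φ fun F => ?_).symm
  obtain ⟨f, rfl⟩ := (classCoeff_bijective (k := k) hRP).2 F
  have h1 : classCoeff f ∘ classMap g = classCoeff (conjHom g⁻¹ f) := funext fun q =>
    Quotient.inductionOn q fun a => by
      show (f : MonoidAlgebra k P).coeff (g * a * g⁻¹) = (domCongr k k (MulAut.conj g⁻¹) (f : MonoidAlgebra k P)).coeff a
      rw [coeff_domCongr', inv_inv]
  rw [h1]
  show ev (L.symm (classCoeff (conjHom g⁻¹ f))) = ev (L.symm (classCoeff f)) ∘ act
  rw [show L.symm (classCoeff (conjHom g⁻¹ f)) = conjHom g⁻¹ f from L.symm_apply_apply _,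
    show L.symm (classCoeff f) = f from L.symm_apply_apply _]
  rfl

end CfsgLib.Camina.Module
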