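import Mathlib
import Cfsg.Agent.Lib.Camina.Module.Points
import Cfsg.Agent.Lib.Camina.Module.Four

/-!
In a Camina pair of a `p`-group, the stabilizer of a point of the class algebra is not as small as the normal
subgroup, and each of its elements centralizes more of it modulo that subgroup than by itself.
-/

set_option autoImplicit false
set_option linter.unusedSectionVars false

namespace CfsgLib.Camina.Module

open MonoidAlgebra Subgroup

universe u v

variable {k : Type v} [Field k] {P : Type u} [Group P] [Finite P] {P0 R R' : Subgroup P}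

/-- The inclusion of class algebras. -/
noncomputable def incl (h : R' ≤ R) : classAlg k P0 R' →ₐ[k] classAlg k P0 R :=
  Subalgebra.inclusion fun _ hf => ⟨fun x hx => h (hf.1 x hx), hf.2⟩

variable [P0.Normal] [R.Normal] [R'.Normal]

theorem smul_comp_incl (h : R' ≤ R) (g : P) (χ : Points k P0 R) :
    (g • χ).comp (incl h) = g • χ.comp (incl h) := rfl

/-- The fibres of the restriction to a subgroup of index `p` with central quotient are small. -/
theorem card_fibre_le {p : ℕ} [hp : Fact p.Prime] (h : R' ≤ R) (hRP : R ≤ P0) {r : P} (hr : r ∈ R) (hr' : r ∉ R')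
    (hrc : ∀ g : P, g * r * g⁻¹ * r⁻¹ ∈ R') (hgen : ∀ x ∈ R, ∃ i : ℕ, i < p ∧ (r ^ i)⁻¹ * x ∈ R')
    (hrp : r ^ p ∈ R') (ξ : Points k P0 R') :
    Nat.card {χ : Points k P0 R // χ.comp (incl h) = ξ} ≤ p := by
  classical
  haveI := Fintype.ofFinite P
  -- the part supported on one coset
  let part : classAlg k P0 R → ℕ → classAlg k P0 R := fun f i =>
    ⟨MonoidAlgebra.ofCoeff ((f : MonoidAlgebra k P).coeff.filter fun x => (r ^ i)⁻¹ * x ∈ R'),
      fun x hx => f.2.1 x (fun h0 => hx (by simp [Finsupp.filter_apply, h0])),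
      fun u hu => MonoidAlgebra.ext (Finsupp.ext fun x => by
        rw [coeff_domCongr']
        show ((f : MonoidAlgebra k P).coeff.filter fun x => (r ^ i)⁻¹ * x ∈ R') (u⁻¹ * x * u) =
          ((f : MonoidAlgebra k P).coeff.filter fun x => (r ^ i)⁻¹ * x ∈ R') x
        rw [Finsupp.filter_apply, Finsupp.filter_apply, coeff_conj f.2 hu]
        refine if_congr ?_ rfl rfl
        rw [← QuotientGroup.eq_one_iff, ← QuotientGroup.eq_one_iff]
        have hz : ∀ q : P ⧸ R', Commute q (r : P ⧸ R') := by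
          intro q
          obtain ⟨g, rfl⟩ := QuotientGroup.mk'_surjective R' q
          have h1 := (QuotientGroup.eq_one_iff (g * r * g⁻¹ * r⁻¹)).mpr (hrc g)
          rw [QuotientGroup.mk_mul, QuotientGroup.mk_mul, QuotientGroup.mk_mul, QuotientGroup.mk_inv,
            QuotientGroup.mk_inv, mul_inv_eq_one, mul_inv_eq_iff_eq_mul] at h1
          exact h1
        simp only [QuotientGroup.mk_mul, QuotientGroup.mk_inv, QuotientGroup.mk_pow]
        rw [inv_mul_eq_one, inv_mul_eq_one]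
        have hzu := (hz (u : P ⧸ R')).pow_right i
        constructor
        · intro e
          rw [show (x : P ⧸ R') = (u : P ⧸ R') * ((u : P ⧸ R')⁻¹ * x * u) * (u : P ⧸ R')⁻¹ by group, ← e, hzu.eq,
            mul_inv_cancel_right]
        · intro e
          rw [← e, mul_assoc, ← hzu.eq, inv_mul_cancel_left])⟩
  have hsum : ∀ f, f = ∑ i ∈ Finset.range p, part f i := by
    intro f
    refine Subtype.ext (MonoidAlgebra.ext (Finsupp.ext fun x => ?_))
    rw [AddSubmonoidClass.coe_finset_sum, MonoidAlgebra.coeff_sum, Finsupp.coe_finsetSum, Finset.sum_apply]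
    show (f : MonoidAlgebra k P).coeff x =
      ∑ i ∈ Finset.range p, ((f : MonoidAlgebra k P).coeff.filter fun x => (r ^ i)⁻¹ * x ∈ R') x
    by_cases hx : (f : MonoidAlgebra k P).coeff x = 0
    · simp [Finsupp.filter_apply, hx]
    obtain ⟨i, hi, hix⟩ := hgen x (f.2.1 x hx)
    rw [Finset.sum_eq_single_of_mem i (Finset.mem_range.mpr hi) (fun j hj hji => ?_),
      Finsupp.filter_apply, if_pos hix]
    rw [Finsupp.filter_apply, if_neg]
    intro hjx
    have hd : ∀ a b : ℕ, a < b → b < p → (r ^ a)⁻¹ * x ∈ R' → (r ^ b)⁻¹ * x ∈ R' → False := by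
      intro a b hab hb ha hb'
      have h1 : r ^ (b - a) ∈ R' := by
        have h2 : r ^ (b - a) = ((r ^ a)⁻¹ * x) * ((r ^ b)⁻¹ * x)⁻¹ := by
          rw [show b = a + (b - a) by omega, pow_add]; group
          rw [show ((a + (b - a) - a : ℕ)) = b - a by omega]
        exact h2 ▸ mul_mem ha (inv_mem hb')
      refine hr' ?_
      obtain ⟨t, -, ht⟩ := Nat.exists_mul_mod_eq_one_of_coprime
        ((hp.out.coprime_iff_not_dvd.mpr (Nat.not_dvd_of_pos_of_lt (show 0 < b - a by omega) (by omega))).symm)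
        hp.out.one_lt
      have h3 : r ^ ((b - a) * t) ∈ R' := by rw [pow_mul]; exact pow_mem h1 t
      rw [← Nat.mod_add_div ((b - a) * t) p, ht, pow_add, pow_one, pow_mul] at h3
      exact (Subgroup.mul_mem_cancel_right _ (pow_mem hrp _)).mp h3
    rcases Nat.lt_or_gt_of_ne hji with hh | hh
    · exact hd j i hh hi hjx hix
    · exact hd i j hh (Finset.mem_range.mp hj) hix hjx
  have hsupp : ∀ f i x, ((part f i : classAlg k P0 R) : MonoidAlgebra k P).coeff x ≠ 0 →
      (x : P ⧸ R') = (r : P ⧸ R') ^ i := by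
    intro f i x hx
    have h1 : (r ^ i)⁻¹ * x ∈ R' := by
      by_contra h1
      exact hx (by simp [part, Finsupp.filter_apply, h1])
    rw [← QuotientGroup.mk_pow]
    exact (QuotientGroup.eq.mpr h1).symm
  have hmul : ∀ (a b : MonoidAlgebra k P) (q q' : P ⧸ R'), (∀ x, a.coeff x ≠ 0 → (x : P ⧸ R') = q) →
      (∀ x, b.coeff x ≠ 0 → (x : P ⧸ R') = q') → ∀ x, (a * b).coeff x ≠ 0 → (x : P ⧸ R') = q * q' := by
    intro a b q q' ha hb x hx
    obtain ⟨y, hy, z, hz, rfl⟩ :=
      Finset.mem_mul.mp (MonoidAlgebra.support_coeff_mul_subset a b (Finsupp.mem_support_iff.mpr hx))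
    rw [QuotientGroup.mk_mul, ha y (Finsupp.mem_support_iff.mp hy), hb z (Finsupp.mem_support_iff.mp hz)]
  have hpow : ∀ f i (n : ℕ) x, (((part f i) ^ n : classAlg k P0 R) : MonoidAlgebra k P).coeff x ≠ 0 →
      (x : P ⧸ R') = ((r : P ⧸ R') ^ i) ^ n := by
    intro f i n
    induction n with
    | zero =>
      intro x hx
      have : x = 1 := by
        by_contra hne
        exact hx (by simp [MonoidAlgebra.one_def, Ne.symm hne])
      simp [this]
    | succ n ih =>
      rw [pow_succ, pow_succ]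
      exact hmul _ _ _ _ ih (hsupp f i)
  have hdown : ∀ a : classAlg k P0 R, (∀ x, (a : MonoidAlgebra k P).coeff x ≠ 0 → (x : P ⧸ R') = 1) →
      ∃ a' : classAlg k P0 R', incl h a' = a := fun a ha =>
    ⟨⟨a, fun x hx => (QuotientGroup.eq_one_iff x).mp (ha x hx), a.2.2⟩, Subtype.ext rfl⟩
  have hrq : (r : P ⧸ R') ^ p = 1 := by rw [← QuotientGroup.mk_pow, QuotientGroup.eq_one_iff]; exact hrp
  have hzero : ∀ χ : Points k P0 R, χ.comp (incl h) = ξ → ∀ f, ∀ a' : classAlg k P0 R', incl h a' = part f 0 →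
      χ (part f 0) = ξ a' := fun χ hχ f a' ha' => by rw [← ha', ← hχ]; rfl
  have hex0 : ∀ f, ∃ a' : classAlg k P0 R', incl h a' = part f 0 := fun f => hdown _ fun x hx => by
    rw [hsupp f 0 x hx, pow_zero]
  by_cases hall : ∀ χ : Points k P0 R, χ.comp (incl h) = ξ → ∀ f i, i < p → i ≠ 0 → χ (part f i) = 0
  · haveI : Subsingleton {χ : Points k P0 R // χ.comp (incl h) = ξ} := ⟨fun ⟨a, ha⟩ ⟨b, hb⟩ =>
      Subtype.ext (AlgHom.ext fun f => by
        rw [hsum f, map_sum, map_sum]
        refine Finset.sum_congr rfl fun i hi => ?_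
        by_cases hi0 : i = 0
        · subst hi0
          obtain ⟨a', ha'⟩ := hex0 f
          rw [hzero a ha f a' ha', hzero b hb f a' ha']
        · rw [hall a ha f i (Finset.mem_range.mp hi) hi0, hall b hb f i (Finset.mem_range.mp hi) hi0])⟩
    exact (Finite.card_le_one_iff_subsingleton.mpr this).trans hp.out.one_le
  push Not at hall
  obtain ⟨χ0, hχ0, g, i, hi, hi0, hne⟩ := hall
  obtain ⟨bp, hbp⟩ := hdown ((part g i) ^ p) fun x hx => by
    rw [hpow g i p x hx, ← pow_mul, mul_comm, pow_mul, hrq, one_pow]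
  have hb : ∀ χ : Points k P0 R, χ.comp (incl h) = ξ → χ (part g i) ^ p = ξ bp := fun χ hχ => by
    rw [← map_pow, ← hbp, ← hχ]; rfl
  have hc0 : ξ bp ≠ 0 := by rw [← hb χ0 hχ0]; exact pow_ne_zero _ hne
  have hdet : Function.Injective fun χ : {χ : Points k P0 R // χ.comp (incl h) = ξ} =>
      (⟨χ.1 (part g i), Multiset.mem_toFinset.mpr ((Polynomial.mem_nthRoots hp.out.pos).mpr (hb χ.1 χ.2))⟩ :
        (Polynomial.nthRoots p (ξ bp)).toFinset) := by
    rintro ⟨a, ha⟩ ⟨b, hb'⟩ hab
    have hab' : a (part g i) = b (part g i) := congrArg Subtype.val hab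
    refine Subtype.ext (AlgHom.ext fun f => ?_)
    rw [hsum f, map_sum, map_sum]
    refine Finset.sum_congr rfl fun j _ => ?_
    obtain ⟨n, hn⟩ : ∃ n : ℕ, p ∣ j + i * n := by
      refine ⟨(-(j : ZMod p) / i).val, ?_⟩
      rw [← ZMod.natCast_eq_zero_iff, Nat.cast_add, Nat.cast_mul, ZMod.natCast_val, ZMod.cast_id, mul_div_cancel₀ _
        (by rw [Ne, ZMod.natCast_eq_zero_iff]; exact Nat.not_dvd_of_pos_of_lt (Nat.pos_of_ne_zero hi0) hi),
        add_neg_cancel]
    obtain ⟨a', ha'⟩ := hdown (part f j * (part g i) ^ n) fun x hx => by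
      rw [hmul _ _ _ _ (hsupp f j) (hpow g i n) x hx, ← pow_mul, ← pow_add]
      obtain ⟨t, ht⟩ := hn
      rw [ht, pow_mul, hrq, one_pow]
    have e1 : ∀ χ : Points k P0 R, χ.comp (incl h) = ξ → χ (part f j) * χ (part g i) ^ n = ξ a' := fun χ hχ => by
      rw [← map_pow, ← map_mul, ← ha', ← hχ]; rfl
    have ha0 : b (part g i) ≠ 0 := fun e => hc0 (by rw [← hb b hb', e, zero_pow hp.out.ne_zero])
    exact mul_right_cancel₀ (pow_ne_zero n ha0) (by rw [e1 b hb']; rw [← hab']; exact e1 a ha)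
  refine (Nat.card_le_card_of_injective _ hdet).trans ?_
  rw [Nat.card_eq_fintype_card, Fintype.card_coe]
  exact (Multiset.toFinset_card_le _).trans (Polynomial.card_nthRoots p _)

/-- An element fixes at most as many classes as it centralizes elements. -/
theorem card_fixed_classes_le (hRP : R ≤ P0) (s : P)
    (hconst : ∀ u ∈ P0, Nat.card ↥(P0 ⊓ centralizer {s * u}) = Nat.card ↥(P0 ⊓ centralizer {s})) :
    Nat.card {q : Quotient (classSetoid P0 R) // classMap s q = q} ≤ Nat.card ↥(P0 ⊓ centralizer {s}) := by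
  classical
  letI : MulAction P0 R :=
    { smul := fun u a => ⟨u * a * (u : P)⁻¹, ‹R.Normal›.conj_mem a a.2 u⟩
      one_smul := fun a => Subtype.ext (show (1 : P0) * (a : P) * ((1 : P0) : P)⁻¹ = a by simp)
      mul_smul := fun a b c => Subtype.ext (show (a * b : P0) * (c : P) * ((a * b : P0) : P)⁻¹ =
        a * (b * c * (b : P)⁻¹) * (a : P)⁻¹ by simp [mul_assoc]) }
  haveI := Fintype.ofFinite P0
  haveI := Fintype.ofFinite R
  let Z := Σ u : P0, ↥(P0 ⊓ centralizer {s * (u : P)})
  have hZ : Nat.card Z = Nat.card P0 * Nat.card ↥(P0 ⊓ centralizer {s}) := by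
    rw [Nat.card_sigma, Finset.sum_congr rfl fun (u : P0) _ => hconst u u.2, Finset.sum_const, Finset.card_univ,
      smul_eq_mul, ← Nat.card_eq_fintype_card]
  set Q := {q : Quotient (classSetoid P0 R) // classMap s q = q}
  have hq : ∀ q : Q, ∃ x : R, ∃ u : P0, Quotient.mk (classSetoid P0 R) x = q.1 ∧
      s * u * (x : P) = x * (s * u) := by
    rintro ⟨q, hq⟩
    induction q using Quotient.inductionOn with
    | _ x =>
      obtain ⟨w, hw, hwx⟩ := Quotient.exact hq.symm
      refine ⟨x, ⟨s⁻¹ * w⁻¹ * s, by simpa using ‹P0.Normal›.conj_mem _ (P0.inv_mem hw) s⁻¹⟩, rfl, ?_⟩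
      · have h1 : w * (x : P) * w⁻¹ = s * x * s⁻¹ := hwx
        calc s * (s⁻¹ * w⁻¹ * s) * (x : P) = w⁻¹ * (s * x * s⁻¹) * s := by group
          _ = (x : P) * (s * (s⁻¹ * w⁻¹ * s)) := by rw [← h1]; group
  choose x u hx hcomm using hq
  let F : (Σ q : Q, MulAction.orbit P0 (x q) × MulAction.stabilizer P0 (x q)) → Z := fun z =>
    let v := z.2.1.2.choose
    ⟨⟨s⁻¹ * v * s * (u z.1 : P) * z.2.2.1 * (v : P)⁻¹, by
      refine P0.mul_mem (P0.mul_mem (P0.mul_mem ?_ (u z.1).2) z.2.2.1.2) (P0.inv_mem v.2)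
      simpa using ‹P0.Normal›.conj_mem _ v.2 s⁻¹⟩,
    ⟨(z.2.1.1 : R), hRP (z.2.1.1 : R).2, by
      refine mem_centralizer_singleton_iff.mpr ?_
      have hv : (v : P) * (x z.1 : P) * (v : P)⁻¹ = (z.2.1.1 : R) := congrArg Subtype.val z.2.1.2.choose_spec
      have hc : (z.2.2.1 : P) * (x z.1 : P) = (x z.1 : P) * z.2.2.1 :=
        mul_inv_eq_iff_eq_mul.mp (congrArg Subtype.val z.2.2.2)
      have hsu := hcomm z.1
      rw [← hv]
      calc (v : P) * (x z.1 : P) * (v : P)⁻¹ * (s * (s⁻¹ * v * s * (u z.1 : P) * z.2.2.1 * (v : P)⁻¹))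
          = v * (((x z.1 : P) * (s * (u z.1 : P))) * z.2.2.1) * (v : P)⁻¹ := by group
        _ = v * (s * (u z.1 : P) * ((z.2.2.1 : P) * x z.1)) * (v : P)⁻¹ := by rw [← hsu, hc]; group
        _ = s * (s⁻¹ * v * s * (u z.1 : P) * z.2.2.1 * (v : P)⁻¹) * ((v : P) * (x z.1 : P) * (v : P)⁻¹) := by
            group⟩⟩
  have hF : Function.Injective F := by
    rintro ⟨q, ⟨a, ha⟩, w⟩ ⟨q', ⟨a', ha'⟩, w'⟩ he
    obtain ⟨h1, h2⟩ := Sigma.ext_iff.mp he
    have h3 : (a : P) = a' := by
      have := congrArg (fun z : Z => ((z.2 : ↥(P0 ⊓ centralizer {s * (z.1 : P)})) : P)) he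
      exact this
    obtain rfl : a = a' := Subtype.ext h3
    have hqq : q = q' := by
      refine Subtype.ext ?_
      rw [← hx q, ← hx q']
      obtain ⟨v, hv⟩ := ha
      obtain ⟨v', hv'⟩ := ha'
      refine Quotient.sound ⟨(v' : P)⁻¹ * v, P0.mul_mem (P0.inv_mem v'.2) v.2, ?_⟩
      have e1 : (v : P) * (x q : P) * (v : P)⁻¹ = a := congrArg Subtype.val hv
      have e2 : (v' : P) * (x q' : P) * (v' : P)⁻¹ = a := congrArg Subtype.val hv'
      calc (v' : P)⁻¹ * v * (x q : P) * ((v' : P)⁻¹ * v)⁻¹ = (v' : P)⁻¹ * ((v : P) * (x q : P) * (v : P)⁻¹) * v' := by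
            group
        _ = x q' := by rw [e1, ← e2]; group
    subst hqq
    have h4 := congrArg Subtype.val h1
    simp only [F] at h4
    have h5 : (w.1 : P) = w'.1 := by simpa using h4
    rw [show w = w' from Subtype.ext (Subtype.ext h5)]
  have h := Nat.card_le_card_of_injective F hF
  rw [hZ, Nat.card_sigma] at h
  rw [Finset.sum_congr rfl fun (q : Q) _ =>
    show Nat.card (MulAction.orbit P0 (x q) × MulAction.stabilizer P0 (x q)) = Nat.card P0 by
      rw [← Nat.card_congr (MulAction.orbitProdStabilizerEquivGroup P0 (x q))],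
    Finset.sum_const, Finset.card_univ, smul_eq_mul, ← Nat.card_eq_fintype_card, mul_comm] at h
  exact Nat.le_of_mul_le_mul_left h Nat.card_pos

variable [IsAlgClosed k] {p : ℕ} [hp : Fact p.Prime]

/-- The orbit under elements centralizing `s` modulo `P0` is smaller than the centralizer of `s` in `P0`. -/
theorem relIndex_lt (hPg : IsPGroup p P) (hpk : (p : k) ≠ 0) (hRP : R ≤ P0) {s : P} {χ : Points k P0 R}
    (hs : s • χ = χ) {C : Subgroup P} (hC : ∀ y ∈ C, y * s * y⁻¹ * s⁻¹ ∈ P0)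
    (hconst : ∀ u ∈ P0, Nat.card ↥(P0 ⊓ centralizer {s * u}) = Nat.card ↥(P0 ⊓ centralizer {s}))
    (h1 : 1 < Nat.card ↥(P0 ⊓ centralizer {s})) :
    (MulAction.stabilizer P χ).relIndex C < Nat.card ↥(P0 ⊓ centralizer {s}) := by
  set O := MulAction.orbit C χ
  have hidx : (MulAction.stabilizer P χ).relIndex C = Nat.card O := by
    rw [Subgroup.relIndex, show (MulAction.stabilizer P χ).subgroupOf C = MulAction.stabilizer C χ from rfl,
      MulAction.index_stabilizer]
    exact (Nat.card_coe_set_eq _).symm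
  let ε : Points k P0 R := (MonoidAlgebra.lift k k P 1).comp (classAlg k P0 R).val
  have hε : ∀ g : P, g • ε = ε := fun g => AlgHom.ext fun f => by
    rw [smul_def]
    show MonoidAlgebra.lift k k P 1 (domCongr k k (MulAut.conj g⁻¹) (f : MonoidAlgebra k P)) =
      MonoidAlgebra.lift k k P 1 (f : MonoidAlgebra k P)
    have e1 : (MonoidAlgebra.lift k k P 1).comp (domCongr k k (MulAut.conj g⁻¹)).toAlgHom =
        MonoidAlgebra.lift k k P 1 := (MonoidAlgebra.lift k k P).symm.injective (MonoidHom.ext fun m => by simp)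
    exact DFunLike.congr_fun e1 (f : MonoidAlgebra k P)
  rw [hidx]
  by_cases hε' : ε ∈ O
  · obtain ⟨y, hy⟩ := hε'
    have hχε : χ = ε := by
      rw [← inv_smul_smul y χ, show y • χ = ε from hy]; exact hε _
    have hsub : O ⊆ {ε} := by
      rintro _ ⟨z, rfl⟩
      show (z : P) • χ = ε
      rw [hχε, hε]
    refine lt_of_le_of_lt ((Nat.card_mono (Set.finite_singleton ε) hsub).trans ?_) h1
    simp
  · have hfix : O ⊆ {x | s • x = x} := by
      rintro _ ⟨⟨y, hy⟩, rfl⟩
      show s • (y • χ) = y • χ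
      have h2 : y⁻¹ * s * y ∈ MulAction.stabilizer P χ := by
        have h3 : s⁻¹ * (y⁻¹ * s * y) ∈ P0 := by
          have h4 := ‹P0.Normal›.conj_mem _ (hC _ (C.inv_mem hy)) s⁻¹
          simpa [mul_assoc] using h4
        rw [show y⁻¹ * s * y = s * (s⁻¹ * (y⁻¹ * s * y)) by group]
        exact mul_mem hs (le_stabilizer χ h3)
      rw [← mul_smul, show s * y = y * (y⁻¹ * s * y) by group, mul_smul, h2]
    have hlt : Nat.card O < Nat.card {x : Points k P0 R // s • x = x} := by
      show Nat.card O < Nat.card ↑{x : Points k P0 R | s • x = x}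
      rw [Nat.card_coe_set_eq, Nat.card_coe_set_eq]
      exact Set.ncard_lt_ncard ⟨hfix, fun hh => hε' (hh (hε s))⟩ (Set.toFinite _)
    exact lt_of_lt_of_le hlt ((card_fixed_points hPg hpk hRP s).le.trans (card_fixed_classes_le hRP s hconst))

end CfsgLib.Camina.Module
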