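import Mathlib
import Cfsg.Agent.Lib.Camina.Nilpotent
import Cfsg.Agent.Lib.Camina.Module.Tower
import Cfsg.Agent.Lib.Camina.Module.Descend

/-!
A Camina pair `(P, P0)` of a `p`-group has no module on which every element outside `P0` fixes only zero, unless
`p = 2` and `P0` has index four.
-/

set_option autoImplicit false
set_option linter.unusedSectionVars false

namespace CfsgLib.Camina.Module

open MonoidAlgebra Subgroup

universe u v w

variable {k : Type v} [Field k] [IsAlgClosed k] {P : Type u} [Group P] [Finite P] {P0 : Subgroup P} [P0.Normal]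
  {p : ℕ} [hp : Fact p.Prime]

theorem card_sup_mul_card_inf' (C : Subgroup P) :
    Nat.card ↥(C ⊔ P0) * Nat.card ↥(P0 ⊓ C) = Nat.card P0 * Nat.card C := by
  have h1 := relIndex_mul_relIndex ⊥ P0 (C ⊔ P0) bot_le le_sup_right
  rw [relIndex_bot_left, relIndex_bot_left, relIndex_sup_right] at h1
  have h2 := relIndex_mul_relIndex ⊥ (P0 ⊓ C) C bot_le inf_le_right
  rw [relIndex_bot_left, relIndex_bot_left, inf_relIndex_right] at h2
  rw [← h1, ← h2]; ring

variable (hPg : IsPGroup p P) (hpk : (p : k) ≠ 0)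
  (cam : ∀ g : P, g ∉ P0 → ∀ n ∈ P0, ∃ x : P, x * g * x⁻¹ = g * n) (hne : P0 ≠ ⊥)

include cam in
theorem card_cent_const {s : P} (hs : s ∉ P0) {u : P} (hu : u ∈ P0) :
    Nat.card ↥(P0 ⊓ centralizer {s * u}) = Nat.card ↥(P0 ⊓ centralizer {s}) := by
  obtain ⟨x, hx⟩ := cam s hs u hu
  refine (Nat.card_congr
    { toFun := fun (a : ↥(P0 ⊓ centralizer {s})) => (⟨x * (a : P) * x⁻¹, ‹P0.Normal›.conj_mem _ a.2.1 x,
        mem_centralizer_singleton_iff.mpr (by
          have h1 := mem_centralizer_singleton_iff.mp a.2.2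
          rw [← hx, show x * (a : P) * x⁻¹ * (x * s * x⁻¹) = x * ((a : P) * s) * x⁻¹ by group, h1]
          group)⟩ : ↥(P0 ⊓ centralizer {s * u}))
      invFun := fun (a : ↥(P0 ⊓ centralizer {s * u})) => (⟨x⁻¹ * (a : P) * x,
        by simpa using ‹P0.Normal›.conj_mem _ a.2.1 x⁻¹,
        mem_centralizer_singleton_iff.mpr (by
          have h1 : (a : P) * (x * s * x⁻¹) = x * s * x⁻¹ * a := by
            rw [hx]; exact mem_centralizer_singleton_iff.mp a.2.2
          calc x⁻¹ * (a : P) * x * s = x⁻¹ * ((a : P) * (x * s * x⁻¹)) * x := by group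
            _ = s * (x⁻¹ * (a : P) * x) := by rw [h1]; group)⟩ : ↥(P0 ⊓ centralizer {s}))
      left_inv := fun a => Subtype.ext (show x⁻¹ * (x * (a : P) * x⁻¹) * x = a by group)
      right_inv := fun a => Subtype.ext (show x * (x⁻¹ * (a : P) * x) * x⁻¹ = a by group) }).symm

include hPg hne in
theorem one_lt_card_cent (s : P) : 1 < Nat.card ↥(P0 ⊓ centralizer {s}) := by
  obtain ⟨z, hz, hzp, hzc⟩ := exists_central hPg P0 hne
  rw [Subgroup.one_lt_card_iff_ne_bot, Subgroup.ne_bot_iff_exists_ne_one]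
  refine ⟨⟨z, hz, mem_centralizer_singleton_iff.mpr (hzc s).symm⟩, fun e => hp.out.one_lt.ne ?_⟩
  rw [← hzp, show z = 1 from congrArg Subtype.val e, orderOf_one]

/-- The elements centralizing `s` modulo `P0`. -/
def centMod (s : P) : Subgroup P := (centralizer {(s : P ⧸ P0)}).comap (QuotientGroup.mk' P0)

include hPg hpk cam hne in
/-- A stabilizer contains more centralizing elements modulo `P0` than honest ones. -/
theorem big {R : Subgroup P} [R.Normal] (hRP : R ≤ P0) {s : P} (hs : s ∉ P0) {χ : Points k P0 R} (hχ : s • χ = χ) :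
    Nat.card ↥(centralizer {s} ⊔ P0) < Nat.card ↥(MulAction.stabilizer P χ ⊓ centMod (P0 := P0) s) := by
  set C := centMod (P0 := P0) s
  have hC : ∀ y ∈ C, y * s * y⁻¹ * s⁻¹ ∈ P0 := fun y hy => by
    have h1 : (y : P ⧸ P0) * s = s * y := mem_centralizer_singleton_iff.mp hy
    rw [← QuotientGroup.eq_one_iff, QuotientGroup.mk_mul, QuotientGroup.mk_mul, QuotientGroup.mk_mul,
      QuotientGroup.mk_inv, QuotientGroup.mk_inv, h1]
    group
  have h := relIndex_lt hPg hpk hRP hχ hC (fun u hu => card_cent_const cam hs hu) (one_lt_card_cent hPg hne s)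
  have h2 := relIndex_mul_relIndex ⊥ (MulAction.stabilizer P χ ⊓ C) C bot_le inf_le_right
  rw [relIndex_bot_left, relIndex_bot_left, inf_relIndex_right] at h2
  have h3 : Nat.card C = Nat.card ↥(centralizer {s}) * Nat.card P0 := by
    rw [CfsgLib.Camina.card_centralizer cam hs]
    have h4 := relIndex_mul_relIndex ⊥ P0 C bot_le (fun n hn => by
      show (n : P ⧸ P0) ∈ centralizer {(s : P ⧸ P0)}
      rw [(QuotientGroup.eq_one_iff n).mpr hn]; exact one_mem _)
    rw [relIndex_bot_left, relIndex_bot_left] at h4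
    rw [← h4, mul_comm]
    congr 1
    rw [show P0.relIndex C = (⊥ : Subgroup (P ⧸ P0)).relIndex (centralizer {(s : P ⧸ P0)}) by
      have h5 : P0.relIndex C = (⊥ : Subgroup (P ⧸ P0)).relIndex (C.map (QuotientGroup.mk' P0)) := by
        rw [← relIndex_comap, MonoidHom.comap_bot, QuotientGroup.ker_mk']
      rw [h5, show C = (centralizer {(s : P ⧸ P0)}).comap (QuotientGroup.mk' P0) from rfl,
        map_comap_eq_self_of_surjective (QuotientGroup.mk'_surjective P0)], relIndex_bot_left]
  have h5 := card_sup_mul_card_inf' (P0 := P0) (centralizer {s})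
  set c := Nat.card ↥(P0 ⊓ centralizer {s})
  set a := Nat.card ↥(MulAction.stabilizer P χ ⊓ C)
  set j := (MulAction.stabilizer P χ).relIndex C
  have h6 : a * j < a * c := Nat.mul_lt_mul_of_pos_left h Nat.card_pos
  rw [h2, h3, mul_comm, ← h5] at h6
  exact Nat.lt_of_mul_lt_mul_right h6

include hPg hpk cam hne in
theorem stabilizer_ne (hne' : P0 ≠ ⊤) : ∀ (n : ℕ) (R : Subgroup P) [R.Normal], Nat.card R ≤ n → R ≤ P0 →
    ∀ χ : Points k P0 R, MulAction.stabilizer P χ ≠ P0 := by
  classical
  intro n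
  induction n with
  | zero => intro R _ hn; exact absurd hn (by have := Nat.card_pos (α := R); omega)
  | succ n ih =>
  intro R hRn hn hRP χ hst
  by_cases hR : R = ⊥
  · subst hR
    refine hne' (hst ▸ ?_)
    refine eq_top_iff.mpr fun g _ => AlgHom.ext fun f => ?_
    have hf : ∀ f : classAlg k P0 (⊥ : Subgroup P), f = algebraMap k _ ((f : MonoidAlgebra k P).coeff 1) := by
      intro f
      refine Subtype.ext (MonoidAlgebra.ext (Finsupp.ext fun x => ?_))
      by_cases hx : x = 1
      · subst hx; simp [MonoidAlgebra.coe_algebraMap]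
      · have h1 : (f : MonoidAlgebra k P).coeff x = 0 := by
          by_contra h; exact hx (Subgroup.mem_bot.mp (f.2.1 x h))
        rw [h1]; simp [MonoidAlgebra.coe_algebraMap, Ne.symm hx]
    rw [hf f, AlgHom.commutes, AlgHom.commutes]
  -- a normal subgroup of index `p` with central quotient
  obtain ⟨R', ⟨hR'n, hR'R⟩, hmax⟩ := Set.Finite.exists_maximal (Set.toFinite {Q : Subgroup P | Q.Normal ∧ Q < R})
    ⟨⊥, inferInstance, bot_lt_iff_ne_bot.mpr hR⟩
  haveI := hR'n
  haveI : (R.map (QuotientGroup.mk' R')).Normal :=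
    Subgroup.Normal.map hRn _ (QuotientGroup.mk'_surjective R')
  obtain ⟨u, hu, hup, huc⟩ := exists_central (p := p) (hPg.to_quotient R') (R.map (QuotientGroup.mk' R')) (fun e =>
    hR'R.not_ge fun x hx => by
      have h1 : QuotientGroup.mk' R' x ∈ R.map (QuotientGroup.mk' R') := mem_map_of_mem _ hx
      rw [e, mem_bot] at h1
      exact (QuotientGroup.eq_one_iff x).mp h1)
  obtain ⟨r, hr, rfl⟩ := mem_map.mp hu
  have hr' : r ∉ R' := fun e => hp.out.one_lt.ne (by
    rw [← hup, show QuotientGroup.mk' R' r = 1 from (QuotientGroup.eq_one_iff r).mpr e, orderOf_one])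
  have hrp : r ^ p ∈ R' := by
    rw [← QuotientGroup.eq_one_iff, QuotientGroup.mk_pow]
    have h1 := pow_orderOf_eq_one (QuotientGroup.mk' R' r)
    rwa [hup] at h1
  have hrc : ∀ g : P, g * r * g⁻¹ * r⁻¹ ∈ R' := fun g => by
    rw [← QuotientGroup.eq_one_iff, QuotientGroup.mk_mul, QuotientGroup.mk_mul, QuotientGroup.mk_mul,
      QuotientGroup.mk_inv, QuotientGroup.mk_inv, show (g : P ⧸ R') * r = r * g from huc g]
    group
  have hQ : (zpowers (QuotientGroup.mk' R' r)).comap (QuotientGroup.mk' R') = R := by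
    set Q := (zpowers (QuotientGroup.mk' R' r)).comap (QuotientGroup.mk' R') with hQdef
    have hQR : Q ≤ R := by
      intro x hx
      obtain ⟨i, hi⟩ := mem_zpowers_iff.mp (mem_comap.mp hx)
      rw [← map_zpow, QuotientGroup.mk'_eq_mk'] at hi
      obtain ⟨z, hz, rfl⟩ := hi
      exact mul_mem (R.zpow_mem hr i) (hR'R.le hz)
    have hQn : Q.Normal := by
      refine Subgroup.Normal.comap ⟨fun q hq g => ?_⟩ _
      obtain ⟨i, rfl⟩ := mem_zpowers_iff.mp hq
      have hc : Commute g (QuotientGroup.mk' R' r) := huc g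
      rw [(hc.zpow_right i).eq, mul_inv_cancel_right]
      exact zpow_mem (mem_zpowers _) i
    have hlt : R' < Q := lt_of_le_of_ne (fun x hx => mem_comap.mpr (by
      rw [show QuotientGroup.mk' R' x = 1 from (QuotientGroup.eq_one_iff x).mpr hx]; exact one_mem _))
      fun e => hr' (e ▸ mem_comap.mpr (mem_zpowers _))
    by_contra hQe
    exact hlt.not_ge (hmax ⟨hQn, lt_of_le_of_ne hQR hQe⟩ hlt.le)
  have hgen : ∀ x ∈ R, ∃ i : ℕ, i < p ∧ (r ^ i)⁻¹ * x ∈ R' := by
    intro x hx
    rw [← hQ, mem_comap] at hx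
    obtain ⟨i, hi, hix⟩ := (IsOfFinOrder.mem_zpowers_iff_mem_range_orderOf (isOfFinOrder_of_finite _)).mp hx |>
      Finset.mem_image.mp
    rw [hup] at hi
    exact ⟨i, Finset.mem_range.mp hi, QuotientGroup.eq.mp hix⟩
  have hlt : Nat.card R' < Nat.card R := by
    refine lt_of_le_of_ne (Subgroup.card_le_of_le hR'R.le) fun e => hR'R.ne ?_
    exact Subgroup.eq_of_le_of_card_ge hR'R.le e.ge
  set T := MulAction.stabilizer P (χ.comp (incl hR'R.le)) with hT
  have hT0 : P0 ≤ T := le_stabilizer _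
  have hTne : T ≠ P0 := ih R' (by omega) (hR'R.le.trans hRP) _
  -- `T` has `P0` as a subgroup of index at most `p`
  have hidx : P0.relIndex T ≤ p := by
    have h1 : P0.relIndex T = Nat.card (MulAction.orbit T χ) := by
      rw [Subgroup.relIndex, show P0.subgroupOf T = MulAction.stabilizer T χ from
          Subgroup.ext fun z => (SetLike.ext_iff.mp hst (z : P)).symm,
        MulAction.index_stabilizer]
      exact (Nat.card_coe_set_eq _).symm
    rw [h1]
    refine le_trans (Nat.card_le_card_of_injective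
      (fun z : MulAction.orbit T χ => (⟨z.1, by
        obtain ⟨⟨y, hy⟩, e⟩ := z.2
        rw [← e]
        show (y • χ).comp (incl hR'R.le) = χ.comp (incl hR'R.le)
        rw [smul_comp_incl]; exact hy⟩ : {ψ : Points k P0 R // ψ.comp (incl hR'R.le) = χ.comp (incl hR'R.le)}))
      fun a b e => Subtype.ext (Subtype.mk.inj e)) (card_fibre_le hR'R.le hRP hr hr' hrc hgen hrp _)
  obtain ⟨s, hsT, hs⟩ : ∃ s ∈ T, s ∉ P0 := by
    by_contra h
    push Not at h
    exact hTne (le_antisymm h hT0)
  have hb := big hPg hpk cam hne (hR'R.le.trans hRP) hs (χ := χ.comp (incl hR'R.le)) hsT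
  have h1 : Nat.card ↥(T ⊓ centMod (P0 := P0) s) ≤ Nat.card T := Subgroup.card_le_of_le inf_le_left
  have hlt0 : P0 < centralizer {s} ⊔ P0 := by
    refine lt_of_le_of_ne le_sup_right fun e => hs ?_
    rw [e]; exact mem_sup_left (mem_centralizer_singleton_iff.mpr rfl)
  have h2 := relIndex_mul_relIndex ⊥ P0 (centralizer {s} ⊔ P0) bot_le hlt0.le
  have h3 := relIndex_mul_relIndex ⊥ P0 T bot_le hT0
  rw [relIndex_bot_left, relIndex_bot_left] at h2 h3
  have h4 : p ≤ P0.relIndex (centralizer {s} ⊔ P0) := by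
    obtain ⟨j, hj⟩ := (hPg.to_subgroup (centralizer {s} ⊔ P0)).index (P0.subgroupOf (centralizer {s} ⊔ P0))
    rw [Subgroup.relIndex, hj]
    refine Nat.le_self_pow (fun e => hlt0.not_ge ?_) p
    rw [e, pow_zero, index_eq_one] at hj
    exact subgroupOf_eq_top.mp hj
  rw [← h2] at hb
  rw [← h3] at h1
  have := Nat.lt_of_lt_of_le hb h1
  have h5 := Nat.lt_of_mul_lt_mul_left this
  omega

/-- A commutative family of operators has a common eigenvector. -/
theorem exists_common_eigen {A : Type*} {W : Type w} [AddCommGroup W] [Module k W] [FiniteDimensional k W]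
    [Nontrivial W] (op : A → Module.End k W) (hcomm : ∀ a b, Commute (op a) (op b)) :
    ∃ (v : W) (c : A → k), v ≠ 0 ∧ ∀ a, op a v = c a • v := by
  classical
  have hex : ∃ d, ∃ S : Submodule k W, S ≠ ⊥ ∧ (∀ a, ∀ v ∈ S, op a v ∈ S) ∧ Module.finrank k S = d :=
    ⟨_, ⊤, top_ne_bot, fun _ _ _ => Submodule.mem_top, rfl⟩
  obtain ⟨S, hS, hinv, hd⟩ := Nat.find_spec hex
  obtain ⟨v, hvS, hv⟩ := S.ne_bot_iff.mp hS
  have hsc : ∀ a, ∃ c : k, op a v = c • v := by
    intro a
    haveI : Nontrivial S := Submodule.nontrivial_iff_ne_bot.mpr hS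
    obtain ⟨c, hc⟩ := Module.End.exists_eigenvalue ((op a).restrict (hinv a))
    obtain ⟨w, hw⟩ := hc.exists_hasEigenvector
    set S' := S ⊓ Module.End.eigenspace (op a) c
    have hS' : S' ≠ ⊥ := S'.ne_bot_iff.mpr ⟨w, ⟨w.2, Module.End.mem_eigenspace_iff.mpr
      (congrArg Subtype.val hw.apply_eq_smul)⟩, fun e => hw.2 (Subtype.ext e)⟩
    have hS'inv : ∀ b, ∀ x ∈ S', op b x ∈ S' := fun b x hx => ⟨hinv b x hx.1, Module.End.mem_eigenspace_iff.mpr (by
      rw [← Module.End.mul_apply, (hcomm a b).eq, Module.End.mul_apply, Module.End.mem_eigenspace_iff.mp hx.2,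
        map_smul])⟩
    have he : S' = S := Submodule.eq_of_le_of_finrank_le inf_le_left
      (hd ▸ Nat.find_min' hex ⟨S', hS', hS'inv, rfl⟩)
    exact ⟨c, Module.End.mem_eigenspace_iff.mp ((he.ge hvS).2)⟩
  choose c hc using hsc
  exact ⟨v, c, hv, hc⟩

include hPg hpk cam hne in
/-- **The module lemma.** -/
theorem two_and_index_four (hne' : P0 ≠ ⊤) {W : Type w} [AddCommGroup W] [Module k W] [FiniteDimensional k W]
    [Nontrivial W] (ρ : P →* Module.End k W) (hfpf : ∀ g ∉ P0, ∀ v : W, ρ g v = v → v = 0) :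
    p = 2 ∧ P0.index = 4 := by
  classical
  haveI := Fintype.ofFinite P
  set L := MonoidAlgebra.lift k (Module.End k W) P ρ
  have hLs : ∀ x : P, L (single x 1) = ρ x := fun x => by simp [L]
  obtain ⟨v0, χf, hv0, hχf⟩ := exists_common_eigen (fun f : classAlg k P0 P0 => L f) (fun a b => by
    exact (congrArg Subtype.val (commute le_rfl a b).eq |> fun e => show L a * L b = L b * L a by
      rw [← map_mul, ← map_mul]; exact congrArg L e))
  let χ : Points k P0 P0 :=
    { toFun := χf
      map_one' := smul_left_injective k hv0 (show χf 1 • v0 = (1 : k) • v0 by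
        rw [← hχf]; simp)
      map_mul' := fun a b => smul_left_injective k hv0 (show χf (a * b) • v0 = (χf a * χf b) • v0 by
        rw [← hχf, MulMemClass.coe_mul, map_mul, Module.End.mul_apply, hχf, map_smul, hχf, smul_smul, mul_comm])
      map_zero' := smul_left_injective k hv0 (show χf 0 • v0 = (0 : k) • v0 by
        rw [← hχf]; simp)
      map_add' := fun a b => smul_left_injective k hv0 (show χf (a + b) • v0 = (χf a + χf b) • v0 by
        rw [← hχf, AddMemClass.coe_add, map_add, LinearMap.add_apply, hχf, hχf, add_smul])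
      commutes' := fun c => smul_left_injective k hv0 (show χf (algebraMap k _ c) • v0 = c • v0 by
        rw [← hχf, show ((algebraMap k (classAlg k P0 P0) c : classAlg k P0 P0) : MonoidAlgebra k P) =
          algebraMap k _ c from rfl, AlgHom.commutes]; simp) }
  set T := MulAction.stabilizer P χ with hT
  have hT0 : P0 ≤ T := le_stabilizer χ
  let E : Submodule k W := ⨅ f : classAlg k P0 P0, Module.End.eigenspace (L f) (χ f)
  have hE : ∀ v, v ∈ E ↔ ∀ f : classAlg k P0 P0, L f v = χ f • v := fun v => by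
    simp only [E, Submodule.mem_iInf, Module.End.mem_eigenspace_iff]
  have hswap : ∀ (y : P) (f : MonoidAlgebra k P),
      L f * ρ y = ρ y * L (domCongr k k (MulAut.conj y⁻¹) f) := by
    intro y f
    rw [← hLs y, ← map_mul, ← map_mul]
    refine congrArg L (MonoidAlgebra.ext (Finsupp.ext fun x => ?_))
    rw [coeff_mul_single_apply, coeff_single_mul_apply, coeff_domCongr', inv_inv]
    simp [mul_assoc]
  have hinv : ∀ (y : T), ∀ v ∈ E, ρ y v ∈ E := by
    intro y v hv
    rw [hE] at hv ⊢
    intro f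
    have h1 : χ (conjHom (y : P)⁻¹ f) = χ f := DFunLike.congr_fun (show (y : P) • χ = χ from y.2) f
    rw [← Module.End.mul_apply, hswap, Module.End.mul_apply,
      show L (domCongr k k (MulAut.conj (y : P)⁻¹) (f : MonoidAlgebra k P)) v = χ (conjHom (y : P)⁻¹ f) • v from
        hv (conjHom (y : P)⁻¹ f), map_smul, h1]
  let σ : T →* Module.End k E :=
    { toFun := fun g => (ρ g).restrict (hinv g)
      map_one' := by ext x; simp
      map_mul' := fun a b => by
        ext x
        show ρ ((a * b : T) : P) (x : W) = ρ a (ρ b (x : W))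
        rw [Subgroup.coe_mul, map_mul]; rfl }
  have hvE : v0 ∈ E := (hE v0).mpr hχf
  haveI : Nontrivial E := nontrivial_of_ne ⟨v0, hvE⟩ 0 (fun e => hv0 (congrArg Subtype.val e))
  have hP0 : (Nat.card P0 : k) ≠ 0 := by
    obtain ⟨j, hj⟩ := IsPGroup.iff_card.mp (hPg.to_subgroup P0)
    rw [hj, Nat.cast_pow]; exact pow_ne_zero _ hpk
  have hF : Fpf σ (P0.subgroupOf T) := by
    constructor
    · intro g hg x hx
      exact Subtype.ext (hfpf g hg x (congrArg Subtype.val hx))
    · intro f hf hcomm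
      obtain ⟨F, hFs, hF⟩ : ∃ F : MonoidAlgebra k P, (∀ x, F.coeff x ≠ 0 → x ∈ P0) ∧
          ∀ x : E, L F (x : W) = f x := by
        clear hcomm
        induction hf using Submodule.span_induction with
        | mem a ha =>
          obtain ⟨g, hg, rfl⟩ := ha
          refine ⟨single (g : P) 1, fun x hx => ?_, fun x => by rw [hLs]; rfl⟩
          have : (g : P) = x := by
            by_contra hne
            exact hx (by simp [hne])
          exact this ▸ hg
        | zero => exact ⟨0, fun x hx => (hx (by simp)).elim, fun x => by simp⟩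
        | add a b _ _ h1 h2 =>
          obtain ⟨A, hA, hA'⟩ := h1
          obtain ⟨B, hB, hB'⟩ := h2
          refine ⟨A + B, fun x hx => ?_, fun x => by simp [hA', hB']⟩
          by_cases h : A.coeff x = 0
          · exact hB x (fun h' => hx (by simp [h, h']))
          · exact hA x h
        | smul t a _ h1 =>
          obtain ⟨A, hA, hA'⟩ := h1
          exact ⟨t • A, fun x hx => hA x fun h => hx (by simp [h]), fun x => by simp [hA']⟩
      haveI := Fintype.ofFinite P0
      set F' : MonoidAlgebra k P := ∑ u : P0, domCongr k k (MulAut.conj (u : P)) F with hF'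
      have hF'mem : F' ∈ classAlg k P0 P0 := by
        refine ⟨fun x hx => ?_, fun u hu => ?_⟩
        · rw [hF', MonoidAlgebra.coeff_sum, Finsupp.coe_finsetSum, Finset.sum_apply] at hx
          obtain ⟨v, -, hv⟩ := Finset.exists_ne_zero_of_sum_ne_zero hx
          rw [coeff_domCongr'] at hv
          simpa [mul_assoc] using ‹P0.Normal›.conj_mem _ (hFs _ hv) (v : P)
        · rw [hF', map_sum]
          exact Fintype.sum_equiv (Equiv.mulLeft (⟨u, hu⟩ : P0)) _ _ fun v => (domCongr_conj_mul u v F).symm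
      refine ⟨χ ⟨F', hF'mem⟩ / (Nat.card P0 : k), LinearMap.ext fun x => Subtype.ext ?_⟩
      have h1 : L F' (x : W) = χ ⟨F', hF'mem⟩ • (x : W) := (hE _).mp x.2 ⟨F', hF'mem⟩
      have h2 : ∀ u : P0, L (domCongr k k (MulAut.conj (u : P)) F) (x : W) = (f x : W) := by
        intro u
        let u' : T := ⟨u, hT0 u.2⟩
        have h3 := hswap (u : P) (domCongr k k (MulAut.conj (u : P)) F)
        rw [← domCongr_conj_mul, inv_mul_cancel, show domCongr k k (MulAut.conj (1 : P)) F = F from
          MonoidAlgebra.ext (Finsupp.ext fun y => by rw [coeff_domCongr']; simp)] at h3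
        have h4 := LinearMap.congr_fun (hcomm u' u.2) (σ u'⁻¹ x)
        have h5 : σ u' (σ u'⁻¹ x) = x := by
          rw [← Module.End.mul_apply, ← map_mul, mul_inv_cancel, map_one]; rfl
        change f (σ u' (σ u'⁻¹ x)) = σ u' (f (σ u'⁻¹ x)) at h4
        rw [h5] at h4
        have h6 := LinearMap.congr_fun h3 (σ u'⁻¹ x : W)
        rw [Module.End.mul_apply, Module.End.mul_apply, hF,
          show ρ (u : P) (σ u'⁻¹ x : W) = (x : W) from congrArg Subtype.val h5] at h6
        rw [h6, h4]; rfl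
      have h7 : L F' (x : W) = (Nat.card P0 : k) • (f x : W) := by
        rw [hF', map_sum, LinearMap.sum_apply, Finset.sum_congr rfl fun u _ => h2 u, Finset.sum_const,
          Finset.card_univ, ← Nat.card_eq_fintype_card, ← Nat.cast_smul_eq_nsmul k]
      rw [h7] at h1
      show (f x : W) = (χ ⟨F', hF'mem⟩ / (Nat.card P0 : k)) • (x : W)
      rw [div_eq_inv_mul, mul_smul, eq_inv_smul_iff₀ hP0]
      exact h1
    · intro x hx
      have hb := big hPg hpk cam hne le_rfl (s := (x : P)) hx x.2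
      obtain ⟨w, hw, hw'⟩ : ∃ w ∈ T ⊓ centMod (P0 := P0) (x : P), w ∉ centralizer {(x : P)} ⊔ P0 := by
        by_contra hcon
        push Not at hcon
        exact absurd (Subgroup.card_le_of_le hcon) (not_le.mpr hb)
      refine ⟨⟨w, hw.1⟩, ?_, fun hh => hw' ?_⟩
      · show (x : P) * w * (x : P)⁻¹ * w⁻¹ ∈ P0
        have h1 : (w : P ⧸ P0) * (x : P) = (x : P) * w := mem_centralizer_singleton_iff.mp hw.2
        rw [← QuotientGroup.eq_one_iff, QuotientGroup.mk_mul, QuotientGroup.mk_mul, QuotientGroup.mk_mul,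
          QuotientGroup.mk_inv, QuotientGroup.mk_inv, ← h1]
        group
      · have h1 := mem_map_of_mem T.subtype hh
        rw [Subgroup.map_sup, MonoidHom.map_zpowers, Subgroup.subgroupOf_map_subtype] at h1
        exact (sup_le_sup (Subgroup.zpowers_le.mpr (mem_centralizer_singleton_iff.mpr rfl)) inf_le_left) h1
  have hTne : P0.subgroupOf T ≠ ⊤ := fun e => stabilizer_ne hPg hpk cam hne hne' _ P0 le_rfl le_rfl χ
    (le_antisymm (subgroupOf_eq_top.mp e) hT0)
  have h4 := four _ σ (P0.subgroupOf T) le_rfl hF (hPg.to_subgroup T) hTne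
  obtain ⟨hp2, hidx, -, hsign, hmem, -⟩ := h4
  refine ⟨hp2, ?_⟩
  subst hp2
  by_cases hTtop : T = ⊤
  · have h1 : P0.relIndex T = 4 := hidx
    rwa [hTtop, relIndex_top_right] at h1
  exfalso
  have hnil := hPg.isNilpotent
  have hlt := Group.normalizerCondition_of_isNilpotent (G := P) T
    (lt_top_iff_ne_top.mpr hTtop)
  obtain ⟨y0, hy0, hy0T⟩ := SetLike.exists_of_lt hlt
  obtain ⟨n, hn⟩ := hPg y0
  have hexy : ∃ j, y0 ^ 2 ^ j ∈ T := ⟨n, hn ▸ T.one_mem⟩
  obtain ⟨j, hj⟩ : ∃ j, Nat.find hexy = j + 1 := Nat.exists_eq_succ_of_ne_zero fun e => hy0T (by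
    simpa [e] using Nat.find_spec hexy)
  set y := y0 ^ 2 ^ j
  have hy : y ∉ T := Nat.find_min hexy (by omega)
  have hyy : y * y ∈ T := by
    rw [← pow_two, ← pow_mul, ← pow_succ, ← hj]; exact Nat.find_spec hexy
  by_cases hyD : y * y ∈ P0
  · -- two components
    have hsgn : ∀ d : P, d ∈ P0 → ρ d v0 = v0 ∨ ρ d v0 = -v0 := by
      intro d hd
      rcases hsign ⟨d, hT0 hd⟩ hd with e | e
      · exact Or.inl (congrArg Subtype.val (LinearMap.congr_fun e ⟨v0, hvE⟩))
      · exact Or.inr (congrArg Subtype.val (LinearMap.congr_fun e ⟨v0, hvE⟩))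
    have h2k : (2 : k) ≠ 0 := by exact_mod_cast hpk
    obtain ⟨d, hd, hdne⟩ : ∃ d ∈ P0, ρ (y⁻¹ * d * y) v0 = -ρ d v0 := by
      by_contra hcon
      push Not at hcon
      refine hy (AlgHom.ext fun f => smul_left_injective k hv0 ?_)
      show χ (conjHom y⁻¹ f) • v0 = χ f • v0
      have hexp : ∀ g : classAlg k P0 P0, χ g • v0 = ∑ x, (g : MonoidAlgebra k P).coeff x • ρ x v0 := by
        intro g
        rw [← (hE v0).mp hvE g]
        conv_lhs => rw [show (g : MonoidAlgebra k P) = ∑ x, single x ((g : MonoidAlgebra k P).coeff x) from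
          MonoidAlgebra.ext (Finsupp.ext fun z => by simp [Finsupp.single_apply])]
        simp [L, LinearMap.sum_apply]
      rw [hexp, hexp]
      refine (Fintype.sum_equiv (MulAut.conj y⁻¹).toEquiv _ _ fun x => ?_).symm
      show (f : MonoidAlgebra k P).coeff x • ρ x v0 =
        (domCongr k k (MulAut.conj y⁻¹) (f : MonoidAlgebra k P)).coeff (y⁻¹ * x * y⁻¹⁻¹) • ρ (y⁻¹ * x * y⁻¹⁻¹) v0
      rw [coeff_domCongr']
      simp only [inv_inv, mul_assoc, mul_inv_cancel, mul_one, mul_inv_cancel_left]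
      by_cases hx : (f : MonoidAlgebra k P).coeff x = 0
      · simp [hx]
      · congr 1
        have hxP := f.2.1 x hx
        have hne2 := hcon x hxP
        rw [← mul_assoc]
        rcases hsgn x hxP with e | e <;>
          rcases hsgn (y⁻¹ * x * y) (by simpa using ‹P0.Normal›.conj_mem x hxP y⁻¹) with e' | e' <;>
          simp_all
    set c := y⁻¹ * d * y
    have hcP : c ∈ P0 := by simpa [c] using ‹P0.Normal›.conj_mem d hd y⁻¹
    have hdd : ρ d (ρ d v0) = v0 := by
      rcases hsgn d hd with e | e <;> simp [e]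
    have happ : ∀ a b : P, ∀ v : W, ρ (a * b) v = ρ a (ρ b v) := fun a b v => by rw [map_mul]; rfl
    have hcd : ρ c (ρ d v0) = -v0 := by
      rcases hsgn d hd with e | e
      · rw [e, hdne, e]
      · rw [e, map_neg, hdne, e, neg_neg]
    have hcneg : ρ c v0 = -ρ d v0 := hdne
    have hfin : ∀ Y : P, Y ∉ P0 → ρ (Y * Y) v0 = v0 → ρ (Y⁻¹ * d * Y) v0 = -ρ d v0 → False := by
      intro Y hY hYY hYd
      have hsum := hfpf Y hY (v0 + ρ Y v0) (by rw [map_add, ← happ, hYY, add_comm])
      have h1 : ρ Y v0 = -v0 := eq_neg_of_add_eq_zero_right hsum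
      have h2 : ρ d (ρ Y v0) = ρ Y (ρ (Y⁻¹ * d * Y) v0) := by
        rw [← happ, ← happ]; congr 2; group
      rw [hYd, h1, map_neg, map_neg, neg_inj] at h2
      rcases hsgn d hd with e | e <;> rw [e] at h2
      · rw [h1, eq_neg_iff_add_eq_zero, ← two_smul k, smul_eq_zero] at h2
        exact hv0 (h2.resolve_left h2k)
      · rw [map_neg, h1, neg_neg, eq_comm, eq_neg_iff_add_eq_zero, ← two_smul k, smul_eq_zero] at h2
        exact hv0 (h2.resolve_left h2k)
    have hyP : y ∉ P0 := fun e => hy (hT0 e)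
    rcases hsgn (y * y) hyD with e | e
    · exact hfin y hyP e hdne
    · refine hfin (y * d) (fun e' => hyP ((P0.mul_mem_cancel_right hd).mp e')) ?_ ?_
      · rw [show y * d * (y * d) = y * y * (c * d) by simp [c, mul_assoc], happ, happ c, hcd, map_neg, e, neg_neg]
      · rw [show (y * d)⁻¹ * d * (y * d) = d⁻¹ * (c * d) by simp [c, mul_assoc], happ, happ c, hcd, map_neg, neg_inj]
        calc ρ d⁻¹ v0 = ρ d⁻¹ (ρ d (ρ d v0)) := by rw [hdd]
          _ = ρ d v0 := by rw [← happ, inv_mul_cancel, map_one]; rfl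
  · -- an element of order four modulo `P0`
    have hb := big hPg hpk cam hne le_rfl (s := y * y) hyD hyy
    have h1 : Nat.card ↥(T ⊓ centMod (P0 := P0) (y * y)) ≤ Nat.card T := Subgroup.card_le_of_le inf_le_left
    have h3 := relIndex_mul_relIndex ⊥ P0 T bot_le hT0
    set S := centralizer {y * y} ⊔ P0
    have h2 := relIndex_mul_relIndex ⊥ P0 S bot_le le_sup_right
    rw [relIndex_bot_left, relIndex_bot_left] at h2 h3
    have hyS : y ∈ S := mem_sup_left (mem_centralizer_singleton_iff.mpr (mul_assoc y y y).symm)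
    have h5 : 4 ≤ P0.relIndex S := by
      obtain ⟨i, hi⟩ := (hPg.to_subgroup S).index (P0.subgroupOf S)
      rw [Subgroup.relIndex, hi]
      by_contra hcon
      have hi2 : i ≤ 1 := by
        by_contra h2
        exact hcon (le_trans (by norm_num) (Nat.pow_le_pow_right (by norm_num : 0 < 2) (show 2 ≤ i by omega)))
      have h6 : (⟨y, hyS⟩ : S) ^ ((P0.subgroupOf S).index) ∈ P0.subgroupOf S :=
        (P0.subgroupOf S).pow_index_mem _
      rw [hi] at h6
      rcases Nat.le_one_iff_eq_zero_or_eq_one.mp hi2 with rfl | rfl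
      · exact hy (hT0 (by simpa [mem_subgroupOf] using h6))
      · exact hyD (by simpa [mem_subgroupOf, pow_two] using h6)
    have h7 : P0.relIndex T = 4 := hidx
    rw [← h2] at hb
    rw [← h3, h7] at h1
    have := Nat.lt_of_mul_lt_mul_left (Nat.lt_of_lt_of_le hb h1)
    omega

end CfsgLib.Camina.Module
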